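import Groth.Agent.Divis.ReflexAlg
import Groth.Agent.S2111
import Mathlib.LinearAlgebra.Dual.Lemmas
import Mathlib.LinearAlgebra.FreeModule.PID
import Mathlib.Algebra.Module.Torsion.Basic

/-!
# Commutative algebra of reflexive modules

* `K475.RefAlg.hartogs`: an element of the fraction field of a Noetherian normal domain which is
  integral at every prime of height one is in the domain.
* `K475.RefAlg.mem_range_of_height_one`: the same for finite reflexive modules.
* `K475.RefAlg.isReflexive_dual`: the dual of a finite module over a Noetherian domain is reflexive.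
* `K475.RefAlg.isReflexive_hom`: `Hom(M, N)` is reflexive when `N` is.
* `K475.RefAlg.eval_surjective_of_pid`: biduality is surjective over a PID.
-/

set_option autoImplicit false

namespace K475.RefAlg

open Groth.Agent.Divis.ReflexAlg

universe u v w

/-- Elements of the fraction field that are integral in codimension one. -/
theorem hartogs {R : Type u} [CommRing R] [IsDomain R] [IsNoetherianRing R] [IsIntegrallyClosed R]
    {K : Type v} [Field K] [Algebra R K] [IsFractionRing R K] (x : K)
    (hx : ∀ p : Ideal R, p.IsPrime → p.height = 1 → ∃ s : R, s ∉ p ∧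
      algebraMap R K s * x ∈ Set.range (algebraMap R K)) : x ∈ Set.range (algebraMap R K) := by
  let e : K ≃ₐ[R] FractionRing R := IsLocalization.algEquiv (nonZeroDivisors R) K (FractionRing R)
  have key : e x ∈ Set.range (algebraMap R (FractionRing R)) := by
    refine Groth.Agent.S2111.result (e x) ?_
    intro p _ hp
    obtain ⟨s, hs, r, hr⟩ := hx p inferInstance hp
    have hs' : s ∈ p.primeCompl := hs
    refine ⟨IsLocalization.mk' (Localization.AtPrime p) r ⟨s, hs'⟩, ?_⟩
    have hs0 : algebraMap R (FractionRing R) s ≠ 0 := by
      intro h0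
      rw [IsFractionRing.to_map_eq_zero_iff] at h0
      exact hs (h0 ▸ zero_mem p)
    have h1 : algebraMap R (FractionRing R) r = algebraMap R (FractionRing R) s * e x := by
      rw [← e.commutes r, hr, map_mul, e.commutes]
    apply mul_left_cancel₀ hs0
    rw [← h1, IsScalarTower.algebraMap_apply R (Localization.AtPrime p) (FractionRing R) s, ← map_mul,
      mul_comm, IsLocalization.mk'_spec (Localization.AtPrime p) r ⟨s, hs'⟩,
      ← IsScalarTower.algebraMap_apply]
  obtain ⟨r, hr⟩ := key
  refine ⟨r, ?_⟩
  apply e.injective
  rw [e.commutes, hr]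

section general

variable {R : Type u} [CommRing R] [IsDomain R] {K : Type v} [Field K] [Algebra R K]
  [IsFractionRing R K] {M : Type w} [AddCommGroup M] [Module R M]
  {N : Type*} [AddCommGroup N] [Module R N] [Module K N] [IsScalarTower R K N]
  (l : M →ₗ[R] N) [IsLocalizedModule (nonZeroDivisors R) l]

/-- An element of the localization killed by all linear forms defined over `R` is zero. -/
theorem eq_zero_of_dualMap [IsNoetherianRing R] [Module.Finite R M] (w : N)
    (h : ∀ φ : Module.Dual R M, dualMap (nonZeroDivisors R) K l φ w = 0) : w = 0 := by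
  rw [← Module.forall_dual_apply_eq_zero_iff K]
  intro ψ
  obtain ⟨⟨φ, s⟩, hs⟩ := IsLocalizedModule.surj (nonZeroDivisors R)
    (dualMap (nonZeroDivisors R) K l) ψ
  have h1 : (s : R) • ψ = dualMap (nonZeroDivisors R) K l φ := hs
  have h2 : (s : R) • ψ w = 0 := by
    rw [← LinearMap.smul_apply, h1, h φ]
  rw [← algebraMap_smul K (s : R) (ψ w), smul_eq_mul, mul_eq_zero] at h2
  refine h2.resolve_left ?_
  rw [IsFractionRing.to_map_eq_zero_iff]
  exact nonZeroDivisors.coe_ne_zero s

end general

/-- Finite reflexive modules over Noetherian normal domains are determined in codimension one. -/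
theorem mem_range_of_height_one {R : Type u} [CommRing R] [IsDomain R] [IsNoetherianRing R]
    [IsIntegrallyClosed R] (K : Type v) [Field K] [Algebra R K] [IsFractionRing R K]
    {M : Type w} [AddCommGroup M] [Module R M] [Module.Finite R M] [Module.IsReflexive R M]
    {N : Type*} [AddCommGroup N] [Module R N] [Module K N] [IsScalarTower R K N]
    (l : M →ₗ[R] N) [IsLocalizedModule (nonZeroDivisors R) l] (v : N)
    (hv : ∀ p : Ideal R, p.IsPrime → p.height = 1 → ∃ s : R, s ∉ p ∧ s • v ∈ LinearMap.range l) :
    v ∈ LinearMap.range l := by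
  have key : ∀ φ : Module.Dual R M, ∃ r : R, algebraMap R K r =
      dualMap (nonZeroDivisors R) K l φ v := by
    intro φ
    refine hartogs (R := R) _ ?_
    intro p hp hp1
    obtain ⟨s, hs, m, hm⟩ := hv p hp hp1
    refine ⟨s, hs, φ m, ?_⟩
    rw [← dualMap_apply (nonZeroDivisors R) K l, hm]
    rw [← algebraMap_smul K s v, map_smul, smul_eq_mul]
  choose r hr using key
  have hinj : Function.Injective (algebraMap R K) := IsFractionRing.injective R K
  let Ψ : Module.Dual R (Module.Dual R M) :=
    { toFun := r
      map_add' := fun φ ψ => hinj (by rw [map_add, hr, hr, hr, map_add]; rfl)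
      map_smul' := fun a φ => hinj (by
        rw [RingHom.id_apply, smul_eq_mul, map_mul, hr, hr, map_smul, LinearMap.smul_apply,
          Algebra.smul_def]) }
  obtain ⟨m, hm⟩ := (Module.bijective_dual_eval R M).2 Ψ
  refine ⟨m, ?_⟩
  rw [← sub_eq_zero]
  apply eq_zero_of_dualMap (K := K) l
  intro φ
  rw [map_sub, dualMap_apply, ← hr, sub_eq_zero]
  congr 1
  exact LinearMap.congr_fun hm φ


section dual

variable {R : Type u} [CommRing R]

/-- The evaluation map of a dual module is split by the transpose of the evaluation map. -/
theorem dualMap_eval_comp_eval (Q : Type v) [AddCommGroup Q] [Module R Q] (φ : Module.Dual R Q) :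
    (Module.Dual.eval R Q).dualMap (Module.Dual.eval R (Module.Dual R Q) φ) = φ := by
  ext q
  rfl

/-- The dual of a finite module over a Noetherian domain is reflexive. -/
theorem isReflexive_dual [IsDomain R] [IsNoetherianRing R] (Q : Type v) [AddCommGroup Q]
    [Module R Q] [Module.Finite R Q] : Module.IsReflexive R (Module.Dual R Q) := by
  let K := FractionRing R
  let N := LocalizedModule (nonZeroDivisors R) Q
  let l : Q →ₗ[R] N := LocalizedModule.mkLinearMap (nonZeroDivisors R) Q
  have hfin : Module.Finite K N := Module.Finite.of_isLocalizedModule (nonZeroDivisors R) l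
  have hrN : Module.IsReflexive K N := inferInstance
  constructor
  constructor
  · intro φ ψ h
    rw [← dualMap_eval_comp_eval Q φ, h, dualMap_eval_comp_eval]
  · intro Φ
    refine ⟨(Module.Dual.eval R Q).dualMap Φ, ?_⟩
    -- the difference is killed by the transpose of evaluation
    ext Ψ
    obtain ⟨s, hs, q, hq⟩ := exists_smul_eq_eval (nonZeroDivisors R) K l Ψ
    have h1 : s • (Module.Dual.eval R (Module.Dual R Q) ((Module.Dual.eval R Q).dualMap Φ)) Ψ =
        s • Φ Ψ := by
      rw [← map_smul, ← map_smul, hq]
      rfl
    exact (mul_right_injective₀ (nonZeroDivisors.ne_zero hs)) h1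

/-- `Hom(M, N)` is reflexive when `N` is, over a Noetherian domain. -/
theorem isReflexive_hom [IsDomain R] [IsNoetherianRing R] (M : Type v) [AddCommGroup M] [Module R M]
    [Module.Finite R M] (N : Type w) [AddCommGroup N] [Module R N] [Module.Finite R N]
    [Module.IsReflexive R N] : Module.IsReflexive R (M →ₗ[R] N) := by
  let e : (M →ₗ[R] N) ≃ₗ[R] Module.Dual R (TensorProduct R M (Module.Dual R N)) :=
    (LinearEquiv.congrRight (Module.evalEquiv R N)).trans
      (TensorProduct.lift.equiv (.id R) M (Module.Dual R N) R)
  have : Module.Finite R (Module.Dual R N) := inferInstance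
  have := isReflexive_dual (R := R) (TensorProduct R M (Module.Dual R N))
  exact Module.equiv e.symm

/-- Biduality is surjective for finite modules over a PID. -/
theorem eval_surjective_of_pid [IsDomain R] [IsPrincipalIdealRing R] (M : Type v) [AddCommGroup M]
    [Module R M] [Module.Finite R M] : Function.Surjective (Module.Dual.eval R M) := by
  let π : M →ₗ[R] M ⧸ Submodule.torsion R M := (Submodule.torsion R M).mkQ
  have hfree : Module.Free R (M ⧸ Submodule.torsion R M) := Module.free_of_finite_type_torsion_free'
  intro Ψ
  obtain ⟨q, hq⟩ := (Module.bijective_dual_eval R (M ⧸ Submodule.torsion R M)).2 (Ψ.comp π.dualMap)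
  obtain ⟨m, rfl⟩ := (Submodule.torsion R M).mkQ_surjective q
  refine ⟨m, ?_⟩
  ext φ
  have hφ : Submodule.torsion R M ≤ LinearMap.ker φ := by
    intro t ht
    obtain ⟨a, ha⟩ := (Submodule.mem_torsion_iff t).mp ht
    rw [LinearMap.mem_ker]
    have h1 : (a : R) * φ t = 0 := by
      rw [← smul_eq_mul, ← map_smul]
      have : (a : R) • t = 0 := ha
      rw [this, map_zero]
    exact (mul_eq_zero.mp h1).resolve_left (nonZeroDivisors.coe_ne_zero a)
  let ψ : Module.Dual R (M ⧸ Submodule.torsion R M) := (Submodule.torsion R M).liftQ φ hφ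
  have h2 : π.dualMap ψ = φ := by
    ext x
    rfl
  have h3 := LinearMap.congr_fun hq ψ
  rw [LinearMap.comp_apply, h2] at h3
  rw [← h3]
  rfl

end dual

end K475.RefAlg
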