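import Groth.Agent.SDiv.K475.GenStalk
import Groth.Agent.SDiv.K475.RefAlg
import Groth.Prelude.Def_Pi1

/-!
# Coherent reflexive modules are determined in codimension one
-/

set_option autoImplicit false
universe u
open CategoryTheory CategoryTheory.Limits AlgebraicGeometry TopologicalSpace Opposite

namespace K475.Codim1

open Groth.Agent.CohqB.QC2 Groth.Agent.CycB Groth.Agent.CycB.LocQuot K475.GenStalk

variable {X : Scheme.{u}} [IsIntegral X]

/-- The prime of the generic point is zero. -/
theorem ker_specMap_eta (x : X) : RingHom.ker (Cyc.specMap x (η X) (spec x)) = ⊥ := by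
  rw [eq_bot_iff]
  intro a ha
  rw [mem_ker_specMap_iff] at ha
  by_contra h0
  apply ha
  have h1 : (X.presheaf.stalkSpecializes (spec x)).hom a ≠ 0 := by
    intro h2
    apply h0
    have hinj : Function.Injective (algebraMap (X.presheaf.stalk x) X.functionField) :=
      IsFractionRing.injective _ _
    exact hinj (h2.trans (map_zero _).symm)
  exact IsUnit.mk0 (G₀ := X.functionField) _ h1

theorem primeCompl_eta (x : X) :
    (RingHom.ker (Cyc.specMap x (η X) (spec x))).primeCompl = nonZeroDivisors (X.presheaf.stalk x) := by
  ext a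
  rw [mem_nonZeroDivisors_iff_ne_zero, Ideal.mem_primeCompl_iff, ker_specMap_eta, Ideal.mem_bot]

/-- The generic stalk as a localization at the nonzero divisors. -/
theorem isLocalizedModule_eta (H : X.Modules) (hH : Coh.IsQCoh H) (x : X) :
    letI := CohStalk.specModule H (spec x)
    IsLocalizedModule (nonZeroDivisors (X.presheaf.stalk x)) (CohStalk.specLin H (spec x)) := by
  let := CohStalk.specModule H (spec x)
  have := CohStalk.isLocalizedModule_stalkSpecializes H hH (spec x)
  rwa [primeCompl_eta] at this

/-- The generic stalk of a module as a vector space over the function field. -/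
noncomputable abbrev ffModule (H : X.Modules) : Module X.functionField (H.presheaf.stalk (η X)) :=
  inferInstanceAs (Module (X.presheaf.stalk (η X)) (H.presheaf.stalk (η X)))

theorem isScalarTower_eta (H : X.Modules) (x : X) :
    letI := CohStalk.specModule H (spec x)
    letI := ffModule H
    IsScalarTower (X.presheaf.stalk x) X.functionField (H.presheaf.stalk (η X)) := by
  let := CohStalk.specModule H (spec x)
  let := ffModule H
  refine ⟨fun a b m => ?_⟩
  change ((X.presheaf.stalkSpecializes (spec x)).hom a * b) • m = _
  rw [mul_smul]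
  rfl

/-- A reflexive coherent module on a normal scheme is determined in codimension one. -/
theorem mem_range_of_codim_one [IsLocallyNoetherian X] (hX : Pi1.IsNormalScheme X) {H : X.Modules}
    (hH : Coh.IsCoh H) (x : X) (hr : Module.IsReflexive (X.presheaf.stalk x) (H.presheaf.stalk x))
    (v : H.presheaf.stalk (η X))
    (hv : ∀ y : X, y ⤳ x → ringKrullDim (X.presheaf.stalk y) = 1 →
      v ∈ Set.range (H.presheaf.stalkSpecializes (spec y))) :
    v ∈ Set.range (H.presheaf.stalkSpecializes (spec x)) := by
  let i1 := CohStalk.specModule H (spec x)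
  let i2 := ffModule H
  have i3 := isScalarTower_eta H x
  have i4 := isLocalizedModule_eta H hH.1 x
  have i5 := (hX x).2
  have i6 := Groth.Agent.Divis.StalkMod.finite_stalk hH x
  have key := K475.RefAlg.mem_range_of_height_one (R := X.presheaf.stalk x) X.functionField
    (CohStalk.specLin H (spec x)) v ?_
  · obtain ⟨m, hm⟩ := key
    exact ⟨m, hm⟩
  intro p hp hp1
  obtain ⟨y, hy, rfl⟩ := exists_eq_ker p
  have hdim : ringKrullDim (X.presheaf.stalk y) = 1 := by
    have h1 := Groth.Agent.Divis.StalkPrime.height_eq (primeOf hy)
    rw [primeOf_asIdeal, hp1, ptOf_primeOf] at h1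
    rw [h1]
    rfl
  obtain ⟨m, hm⟩ := hv y hy hdim
  let i7 := CohStalk.specModule H hy
  have i8 := CohStalk.isLocalizedModule_stalkSpecializes H hH.1 hy
  obtain ⟨⟨n, s⟩, hs⟩ := IsLocalizedModule.surj (RingHom.ker (Cyc.specMap x y hy)).primeCompl
    (CohStalk.specLin H hy) m
  refine ⟨s, s.2, n, ?_⟩
  have h2 : (X.presheaf.stalkSpecializes hy).hom s.1 • m = H.presheaf.stalkSpecializes hy n := hs
  have h3 := congrArg (H.presheaf.stalkSpecializes (spec y)) h2
  rw [spec_spec, ModStalk.stalkSpecializes_smul, hm] at h3
  change H.presheaf.stalkSpecializes (spec x) n = (X.presheaf.stalkSpecializes (spec x)).hom s.1 • v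
  rw [← h3]
  congr 1
  have h4 := TopCat.Presheaf.stalkSpecializes_comp_apply X.presheaf (spec y) hy s.1
  exact h4

end K475.Codim1
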