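import Groth.Agent.Fdesc.LocGenPullback
import Groth.Agent.Fdesc.LocGenGlue
import Groth.Prelude.Def_PicLoc

/-!
# Pulled back sections of modules

`pull_eq_pullHom`: the section `O_X ≅ f^* O_Y ⟶ f^* M` is the pullback section `pullHom f σ`.
-/

set_option autoImplicit false
universe u

open CategoryTheory CategoryTheory.Limits AlgebraicGeometry TopologicalSpace Opposite

namespace K475.SecPull

open Groth.Agent.Fdesc.LocGen

variable {X Y : Scheme.{u}}

theorem homEquiv_pullbackStructureIso (f : X ⟶ Y) :
    (Scheme.Modules.pullbackPushforwardAdjunction f).homEquiv _ _ (PicLoc.pullbackStructureIso f).hom =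
      SheafOfModules.unitToPushforwardObjUnit f.toRingCatSheafHom := by
  have : (SheafOfModules.pushforward.{u} f.toRingCatSheafHom).IsRightAdjoint :=
    inferInstanceAs (Scheme.Modules.pushforward f).IsRightAdjoint
  exact SheafOfModules.pullbackPushforwardAdjunction_homEquiv_pullbackObjUnitToUnit f.toRingCatSheafHom

theorem hom_app_pullTop_one (f : X ⟶ Y) :
    (PicLoc.pullbackStructureIso f).hom.app ⊤ (pullTop f (one ⊤)) = one ⊤ := by
  rw [← homEquiv_app_top, homEquiv_pullbackStructureIso]
  exact map_one (f.app ⊤).hom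

theorem inv_app_one (f : X ⟶ Y) :
    (PicLoc.pullbackStructureIso f).inv.app ⊤ (one ⊤) = pullTop f (one ⊤) := by
  rw [← hom_app_pullTop_one f]
  exact congr(($((PicLoc.pullbackStructureIso f).hom_inv_id).app ⊤) (pullTop f (one ⊤)))

theorem pull_eq_pullHom (f : X ⟶ Y) {M : Y.Modules} (s : Coh.structureModule Y ⟶ M) :
    (PicLoc.pullbackStructureIso f).inv ≫ (Scheme.Modules.pullback f).map s = pullHom f s := by
  apply hom_ext_sec
  rw [pullHom, sec_homOf, sec_comp]
  refine Eq.trans ?_ (res_refl _ (pullTop f (sec s ⊤))).symm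
  have h1 : sec (PicLoc.pullbackStructureIso f).inv ⊤ = pullTop f (one ⊤) := inv_app_one f
  rw [h1]
  exact pullback_map_pullSec f s (one ⊤)

theorem sec_pull (f : X ⟶ Y) {M : Y.Modules} (s : Coh.structureModule Y ⟶ M) (U : Y.Opens) :
    sec ((PicLoc.pullbackStructureIso f).inv ≫ (Scheme.Modules.pullback f).map s) (f ⁻¹ᵁ U) =
      pullSec f (sec s U) := by
  rw [pull_eq_pullHom, sec_pullHom]

end K475.SecPull
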