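import Groth.Agent.SDiv.K475.Codim1
import Groth.Agent.SDiv.K476.HomSh4

/-!
# Duals and reflexive hulls on integral locally Noetherian schemes
-/

set_option autoImplicit false
universe u
open CategoryTheory CategoryTheory.Limits AlgebraicGeometry TopologicalSpace Opposite

namespace K475.Ddual

open RefHull Groth.Agent.CycB K475.GenStalk K476.HomSh3 K476.HomSh4

variable {X : Scheme.{u}} [IsIntegral X]

section torsionfree

theorem isTorsionFree_of_isReflexive {R M : Type*} [CommRing R] [AddCommGroup M] [Module R M]
    (h : Module.IsReflexive R M) : Module.IsTorsionFree R M := inferInstance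

/-- A coherent module with reflexive stalks embeds in its generic stalk. -/
theorem inj_of_isReflexiveAt {H : X.Modules} (hH : Coh.IsCoh H) (hr : ∀ x, IsReflexiveAt H x) :
    Inj H :=
  inj_of_isTorsionFree hH.1 fun x => isTorsionFree_of_isReflexive (hr x)

variable [IsLocallyNoetherian X]

theorem inj_of_isReflexive {H : X.Modules} (hH : Coh.IsCoh H) (hr : IsReflexive H) : Inj H :=
  inj_of_isReflexiveAt hH ((isReflexive_iff_isReflexiveAt hH).mp hr)

variable {F : X.Modules}

theorem isReflexiveAt_dual (hF : Coh.IsCoh F) (x : X) : IsReflexiveAt (dual F) x := by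
  have h1 := Groth.Agent.Divis.StalkMod.finite_stalk hF x
  have h2 := K475.RefAlg.isReflexive_dual (R := X.presheaf.stalk x) (F.presheaf.stalk x)
  exact Module.equiv (dualStalkEquiv F (isFP_of_isCoh hF) x).symm

/-- Duals of coherent modules are reflexive. -/
theorem isReflexive_dual (hF : Coh.IsCoh F) : IsReflexive (dual F) :=
  (isReflexive_iff_isReflexiveAt (isCoh_dual hF)).mpr (isReflexiveAt_dual hF)

/-- Reflexive hulls of coherent modules are reflexive. -/
theorem isReflexive_ddual (hF : Coh.IsCoh F) : IsReflexive (ddual F) :=
  isReflexive_dual (isCoh_dual hF)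

theorem inj_dual (hF : Coh.IsCoh F) : Inj (dual F) :=
  inj_of_isReflexive (isCoh_dual hF) (isReflexive_dual hF)

theorem inj_ddual (hF : Coh.IsCoh F) : Inj (ddual F) := inj_dual (isCoh_dual hF)

/-- The biduality map is surjective at points with principal local ring. -/
theorem surjective_bidual_of_pid (hF : Coh.IsCoh F) (x : X)
    (hx : IsPrincipalIdealRing (X.presheaf.stalk x)) :
    Function.Surjective (stalkMapₗ (bidualMap F) x) := by
  have h1 := Groth.Agent.Divis.StalkMod.finite_stalk hF x
  intro w
  let e := ddualStalkEquiv F (isFP_of_isCoh hF) (isFP_of_isCoh (isCoh_dual hF)) x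
  obtain ⟨v, hv⟩ := K475.RefAlg.eval_surjective_of_pid (R := X.presheaf.stalk x)
    (F.presheaf.stalk x) (e w)
  refine ⟨v, e.injective ?_⟩
  rw [← hv]
  exact ddualStalkEquiv_bidualMap _ _ x v

/-- The biduality map is surjective at points of codimension at most one of a normal scheme. -/
theorem surjective_bidual_of_dim_le_one (hX : Pi1.IsNormalScheme X) (hF : Coh.IsCoh F) (x : X)
    (hx : ringKrullDim (X.presheaf.stalk x) ≤ 1) :
    Function.Surjective (stalkMapₗ (bidualMap F) x) := by
  have := (hX x).2
  exact surjective_bidual_of_pid hF x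
    (Groth.Agent.Divis.ReflexAlg.isPrincipalIdealRing_of_isIntegrallyClosed hx)

/-- The biduality map is bijective at the generic point. -/
theorem bijective_bidual_eta (hF : Coh.IsCoh F) :
    Function.Bijective (stalkMapₗ (bidualMap F) (η X)) := by
  apply bijective_stalkMapₗ_bidualMap_of_free hF
  have : Module.Free X.functionField (F.presheaf.stalk (η X)) := inferInstanceAs
    (@Module.Free X.functionField (F.presheaf.stalk (η X)) _ _ (K475.Codim1.ffModule F))
  exact this

end torsionfree

end K475.Ddual
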