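import Groth.Agent.CycB.CohStalk
import Groth.Agent.Divis.ReflexExtend
import Groth.Agent.Divis.StalkPrime
import Groth.Prelude.Def_RefHull
import Mathlib.AlgebraicGeometry.FunctionField

/-!
# Torsion free quasi-coherent modules on an integral scheme and their generic stalk

`K475.GenStalk`: sections of a module all of whose stalks inject into the generic stalk are
determined by their generic germ; an element of the generic stalk lying in all the stalks is a
section; a morphism into such a module is the same as a map on generic stalks preserving the stalks.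
-/

set_option autoImplicit false
universe u
open CategoryTheory CategoryTheory.Limits AlgebraicGeometry TopologicalSpace Opposite

namespace K475.GenStalk

open Groth.Agent.CohqB.QC2 Groth.Agent.CycB

variable {X : Scheme.{u}} [IsIntegral X]

variable (X) in
/-- The generic point. -/
noncomputable abbrev η : X := genericPoint X

theorem spec (x : X) : η X ⤳ x := (genericPoint_spec X).specializes (Set.mem_univ x)

theorem mem_of_nonempty {U : X.Opens} {x : X} (hx : x ∈ U) : η X ∈ U :=
  (spec x).mem_open U.2 hx

/-- `H` has stalks injecting into the generic stalk. -/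
def Inj (H : X.Modules) : Prop :=
  ∀ x : X, Function.Injective (H.presheaf.stalkSpecializes (spec x))

theorem germ_spec (H : X.Modules) {U : X.Opens} (x : X) (hx : x ∈ U) (s : Γ(H, U)) :
    H.presheaf.stalkSpecializes (spec x) (H.presheaf.germ U x hx s) =
      H.presheaf.germ U (η X) (mem_of_nonempty hx) s :=
  TopCat.Presheaf.germ_stalkSpecializes_apply H.presheaf hx (spec x) s

theorem spec_spec (H : X.Modules) {x y : X} (h : y ⤳ x) (m : H.presheaf.stalk x) :
    H.presheaf.stalkSpecializes (spec y) (H.presheaf.stalkSpecializes h m) =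
      H.presheaf.stalkSpecializes (spec x) m := by
  obtain ⟨U, hx, s, rfl⟩ := TopCat.Presheaf.exists_germ_eq H.presheaf m
  have h1 : H.presheaf.stalkSpecializes h (H.presheaf.germ U x hx s) =
      H.presheaf.germ U y (h.mem_open U.2 hx) s :=
    TopCat.Presheaf.germ_stalkSpecializes_apply H.presheaf hx h s
  rw [h1, germ_spec, germ_spec]

/-- Quasi-coherent torsion free modules have stalks injecting into the generic stalk. -/
theorem inj_of_isTorsionFree {H : X.Modules} (hH : Coh.IsQCoh H)
    (ht : ∀ x : X, Module.IsTorsionFree (X.presheaf.stalk x) (H.presheaf.stalk x)) : Inj H := by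
  intro x
  rw [injective_iff_map_eq_zero]
  intro m hm
  obtain ⟨a, ha, ham⟩ := CohStalk.exists_smul_eq_zero H hH (spec x) m hm
  have ha0 : a ≠ 0 := by
    rintro rfl
    exact ha (zero_mem _)
  have h2 := (ht x).isSMulRegular (IsRegular.of_ne_zero ha0)
  rw [isSMulRegular_iff_right_eq_zero_of_smul] at h2
  exact h2 _ ham

theorem isTorsionFree_of_inj {H : X.Modules} (hH : Inj H) (x : X) :
    Module.IsTorsionFree (X.presheaf.stalk x) (H.presheaf.stalk x) := by
  constructor
  intro r hr m m' h
  apply hH x
  have hr0 : r ≠ 0 := hr.ne_zero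
  have h1 := congrArg (H.presheaf.stalkSpecializes (spec x)) h
  simp only at h1
  rw [ModStalk.stalkSpecializes_smul, ModStalk.stalkSpecializes_smul] at h1
  have hu : IsUnit (X.presheaf.stalkSpecializes (spec x) r) := by
    have : X.presheaf.stalkSpecializes (spec x) r ≠ 0 := by
      intro h0
      apply hr0
      have hinj : Function.Injective (algebraMap (X.presheaf.stalk x) X.functionField) :=
        IsFractionRing.injective _ _
      exact hinj (h0.trans (map_zero _).symm)
    exact IsUnit.mk0 (G₀ := X.functionField) _ this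
  exact hu.smul_left_cancel.mp h1

/-- Sections are determined by their germs at the generic point. -/
theorem section_ext {H : X.Modules} (hH : Inj H) {U : X.Opens} {s t : Γ(H, U)}
    (h : ∀ hη : η X ∈ U, H.presheaf.germ U (η X) hη s = H.presheaf.germ U (η X) hη t) : s = t := by
  rw [← sub_eq_zero]
  apply Groth.Agent.Divis.ReflexExtend.eq_zero_of_germ
  intro x hx
  apply hH x
  rw [germ_spec, map_sub, h, sub_self, map_zero]

/-- An element of the generic stalk lying in all stalks over `U` comes from a section. -/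
theorem exists_section {H : X.Modules} (hH : Inj H) (U : X.Opens) (v : H.presheaf.stalk (η X))
    (hv : ∀ x ∈ U, v ∈ Set.range (H.presheaf.stalkSpecializes (spec x))) :
    ∃ s : Γ(H, U), ∀ hη : η X ∈ U, H.presheaf.germ U (η X) hη s = v := by
  have key : ∀ x : U, ∃ (W : X.Opens) (_ : x.1 ∈ W) (_ : W ≤ U) (m : Γ(H, W)),
      ∀ hη : η X ∈ W, H.presheaf.germ W (η X) hη m = v := by
    rintro ⟨x, hx⟩
    obtain ⟨m, hm⟩ := hv x hx
    obtain ⟨W, hxW, m, rfl⟩ := TopCat.Presheaf.exists_germ_eq H.presheaf m
    refine ⟨W ⊓ U, ⟨hxW, hx⟩, inf_le_right, res H inf_le_left m, fun hη => ?_⟩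
    rw [Groth.Agent.Divis.ReflexExtend.germ_res, ← hm, germ_spec]
  choose W hxW hWU m hm using key
  obtain ⟨t, ht⟩ := exists_glue H W hWU (fun x hx => Opens.mem_iSup.mpr ⟨⟨x, hx⟩, hxW ⟨x, hx⟩⟩) m
    (fun x y => section_ext hH fun hη => by
      rw [Groth.Agent.Divis.ReflexExtend.germ_res, Groth.Agent.Divis.ReflexExtend.germ_res, hm, hm])
  refine ⟨t, fun hη => ?_⟩
  have h1 := hm ⟨η X, hη⟩ (hxW ⟨η X, hη⟩)
  rw [← ht, Groth.Agent.Divis.ReflexExtend.germ_res] at h1
  exact h1

section hom

variable {G H : X.Modules}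

theorem existsUnique_app (hH : Inj H)
    (T : G.presheaf.stalk (η X) →ₗ[X.presheaf.stalk (η X)] H.presheaf.stalk (η X))
    (hT : ∀ (x : X) (m : G.presheaf.stalk x), T (G.presheaf.stalkSpecializes (spec x) m) ∈
      Set.range (H.presheaf.stalkSpecializes (spec x))) (U : X.Opens) (s : Γ(G, U)) :
    ∃ t : Γ(H, U), ∀ hη : η X ∈ U, H.presheaf.germ U (η X) hη t =
      T (G.presheaf.germ U (η X) hη s) := by
  by_cases hη : η X ∈ U
  · obtain ⟨t, ht⟩ := exists_section hH U (T (G.presheaf.germ U (η X) hη s)) (by
      intro x hx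
      have := hT x (G.presheaf.germ U x hx s)
      rwa [germ_spec] at this)
    exact ⟨t, fun _ => ht _⟩
  · exact ⟨0, fun h => absurd h hη⟩

/-- The action on sections of the morphism attached to a map on generic stalks. -/
noncomputable def appOf (hH : Inj H)
    (T : G.presheaf.stalk (η X) →ₗ[X.presheaf.stalk (η X)] H.presheaf.stalk (η X))
    (hT : ∀ (x : X) (m : G.presheaf.stalk x), T (G.presheaf.stalkSpecializes (spec x) m) ∈
      Set.range (H.presheaf.stalkSpecializes (spec x))) (U : X.Opens) (s : Γ(G, U)) : Γ(H, U) :=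
  (existsUnique_app hH T hT U s).choose

theorem germ_appOf (hH : Inj H)
    (T : G.presheaf.stalk (η X) →ₗ[X.presheaf.stalk (η X)] H.presheaf.stalk (η X))
    (hT : ∀ (x : X) (m : G.presheaf.stalk x), T (G.presheaf.stalkSpecializes (spec x) m) ∈
      Set.range (H.presheaf.stalkSpecializes (spec x))) {U : X.Opens} (hη : η X ∈ U) (s : Γ(G, U)) :
    H.presheaf.germ U (η X) hη (appOf hH T hT U s) = T (G.presheaf.germ U (η X) hη s) :=
  (existsUnique_app hH T hT U s).choose_spec hη

/-- The action on sections, as an additive map. -/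
noncomputable def appHom (hH : Inj H)
    (T : G.presheaf.stalk (η X) →ₗ[X.presheaf.stalk (η X)] H.presheaf.stalk (η X))
    (hT : ∀ (x : X) (m : G.presheaf.stalk x), T (G.presheaf.stalkSpecializes (spec x) m) ∈
      Set.range (H.presheaf.stalkSpecializes (spec x))) (U : X.Opens) : Γ(G, U) →+ Γ(H, U) where
  toFun := appOf hH T hT U
  map_zero' := section_ext hH fun hη => by
    rw [germ_appOf, map_zero, map_zero, map_zero]
  map_add' s t := section_ext hH fun hη => by
    rw [germ_appOf, map_add, map_add, map_add, germ_appOf, germ_appOf]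

theorem appOf_res (hH : Inj H)
    (T : G.presheaf.stalk (η X) →ₗ[X.presheaf.stalk (η X)] H.presheaf.stalk (η X))
    (hT : ∀ (x : X) (m : G.presheaf.stalk x), T (G.presheaf.stalkSpecializes (spec x) m) ∈
      Set.range (H.presheaf.stalkSpecializes (spec x))) {U V : X.Opens} (i : V ⟶ U) (s : Γ(G, U)) :
    appOf hH T hT V (G.presheaf.map i.op s) = H.presheaf.map i.op (appOf hH T hT U s) :=
  section_ext hH fun hη => by
    rw [germ_appOf, TopCat.Presheaf.germ_res_apply, TopCat.Presheaf.germ_res_apply, germ_appOf]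

theorem appOf_smul (hH : Inj H)
    (T : G.presheaf.stalk (η X) →ₗ[X.presheaf.stalk (η X)] H.presheaf.stalk (η X))
    (hT : ∀ (x : X) (m : G.presheaf.stalk x), T (G.presheaf.stalkSpecializes (spec x) m) ∈
      Set.range (H.presheaf.stalkSpecializes (spec x))) {U : X.Opens} (r : Γ(X, U)) (s : Γ(G, U)) :
    appOf hH T hT U (r • s) = r • appOf hH T hT U s :=
  section_ext hH fun hη => by
    rw [germ_appOf, Mero.germ_smul, Mero.germ_smul, germ_appOf, map_smul]

/-- The morphism attached to a map on generic stalks preserving the stalks. -/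
noncomputable def homOf (hH : Inj H)
    (T : G.presheaf.stalk (η X) →ₗ[X.presheaf.stalk (η X)] H.presheaf.stalk (η X))
    (hT : ∀ (x : X) (m : G.presheaf.stalk x), T (G.presheaf.stalkSpecializes (spec x) m) ∈
      Set.range (H.presheaf.stalkSpecializes (spec x))) : G ⟶ H :=
  ⟨PresheafOfModules.homMk
    { app := fun U => AddCommGrpCat.ofHom (appHom hH T hT U.unop)
      naturality := fun {U V} i => by
        ext s
        exact appOf_res hH T hT i.unop s }
    (fun U r s => appOf_smul hH T hT (U := U.unop) r s)⟩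

theorem germ_homOf (hH : Inj H)
    (T : G.presheaf.stalk (η X) →ₗ[X.presheaf.stalk (η X)] H.presheaf.stalk (η X))
    (hT : ∀ (x : X) (m : G.presheaf.stalk x), T (G.presheaf.stalkSpecializes (spec x) m) ∈
      Set.range (H.presheaf.stalkSpecializes (spec x))) {U : X.Opens} (hη : η X ∈ U) (s : Γ(G, U)) :
    H.presheaf.germ U (η X) hη ((homOf hH T hT).app U s) = T (G.presheaf.germ U (η X) hη s) :=
  germ_appOf hH T hT hη s

theorem stalkMapₗ_homOf (hH : Inj H)
    (T : G.presheaf.stalk (η X) →ₗ[X.presheaf.stalk (η X)] H.presheaf.stalk (η X))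
    (hT : ∀ (x : X) (m : G.presheaf.stalk x), T (G.presheaf.stalkSpecializes (spec x) m) ∈
      Set.range (H.presheaf.stalkSpecializes (spec x))) :
    RefHull.stalkMapₗ (homOf hH T hT) (η X) = T := by
  ext m
  obtain ⟨U, hη, s, rfl⟩ := TopCat.Presheaf.exists_germ_eq G.presheaf m
  rw [RefHull.stalkMapₗ_germ, germ_homOf]

omit [IsIntegral X] in
/-- Naturality of specialization. -/
theorem stalkMapₗ_spec (φ : G ⟶ H) {x y : X} (h : y ⤳ x) (m : G.presheaf.stalk x) :
    RefHull.stalkMapₗ φ y (G.presheaf.stalkSpecializes h m) =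
      H.presheaf.stalkSpecializes h (RefHull.stalkMapₗ φ x m) := by
  obtain ⟨U, hx, s, rfl⟩ := TopCat.Presheaf.exists_germ_eq G.presheaf m
  have h1 : G.presheaf.stalkSpecializes h (G.presheaf.germ U x hx s) =
      G.presheaf.germ U y (h.mem_open U.2 hx) s :=
    TopCat.Presheaf.germ_stalkSpecializes_apply G.presheaf hx h s
  have h2 : H.presheaf.stalkSpecializes h (H.presheaf.germ U x hx (φ.app U s)) =
      H.presheaf.germ U y (h.mem_open U.2 hx) (φ.app U s) :=
    TopCat.Presheaf.germ_stalkSpecializes_apply H.presheaf hx h _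
  rw [h1, RefHull.stalkMapₗ_germ, RefHull.stalkMapₗ_germ, h2]

/-- Morphisms into a torsion free module are determined by the generic stalk map. -/
theorem hom_ext (hH : Inj H) {φ ψ : G ⟶ H}
    (h : RefHull.stalkMapₗ φ (η X) = RefHull.stalkMapₗ ψ (η X)) : φ = ψ := by
  apply Scheme.Modules.hom_ext
  intro U
  ext s
  refine section_ext (U := U) hH fun hη => ?_
  have h1 := LinearMap.congr_fun h (G.presheaf.germ U (η X) hη s)
  rwa [RefHull.stalkMapₗ_germ, RefHull.stalkMapₗ_germ] at h1

end hom

end K475.GenStalk
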