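import Groth.Agent.SDiv.K475.Codim1
import Groth.Agent.CycB.ModStalk

/-!
# Rational functions in codimension one; generators in codimension one
-/

set_option autoImplicit false
universe u
open CategoryTheory CategoryTheory.Limits AlgebraicGeometry TopologicalSpace Opposite

namespace K475.Codim1Ring

open Groth.Agent.CycB Groth.Agent.CycB.LocQuot K475.GenStalk K475.Codim1
open Groth.Agent.CycB.ModStalk (IsGen)

variable {X : Scheme.{u}} [IsIntegral X]

theorem stalkSpecializes_injective (x : X) :
    Function.Injective (X.presheaf.stalkSpecializes (spec x)) :=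
  (IsFractionRing.injective (X.presheaf.stalk x) X.functionField :
    Function.Injective (algebraMap (X.presheaf.stalk x) X.functionField))

theorem spec_spec_ring {x y : X} (h : y ⤳ x) (a : X.presheaf.stalk x) :
    X.presheaf.stalkSpecializes (spec y) (X.presheaf.stalkSpecializes h a) =
      X.presheaf.stalkSpecializes (spec x) a :=
  TopCat.Presheaf.stalkSpecializes_comp_apply X.presheaf (spec y) h a

/-- A rational function lying in the local rings of codimension one lies in the local rings. -/
theorem mem_range_stalk_of_codim_one [IsLocallyNoetherian X] (hX : Pi1.IsNormalScheme X) (x : X)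
    (a : X.presheaf.stalk (η X))
    (h : ∀ y : X, y ⤳ x → ringKrullDim (X.presheaf.stalk y) = 1 →
      a ∈ Set.range (X.presheaf.stalkSpecializes (spec y))) :
    a ∈ Set.range (X.presheaf.stalkSpecializes (spec x)) := by
  have i5 := (hX x).2
  have key := K475.RefAlg.hartogs (R := X.presheaf.stalk x) (K := X.functionField) a ?_
  · exact key
  intro p hp hp1
  obtain ⟨y, hy, rfl⟩ := exists_eq_ker p
  have hdim : ringKrullDim (X.presheaf.stalk y) = 1 := by
    have h1 := Groth.Agent.Divis.StalkPrime.height_eq (primeOf hy)
    rw [primeOf_asIdeal, hp1, ptOf_primeOf] at h1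
    rw [h1]
    rfl
  obtain ⟨b, hb⟩ := h y hy hdim
  let i7 := (X.presheaf.stalkSpecializes hy).hom.toAlgebra
  have i8 := LocQuot.isLocalization_stalkSpecializes hy
  obtain ⟨⟨n, s⟩, hs⟩ := IsLocalization.surj (RingHom.ker (Cyc.specMap x y hy)).primeCompl b
  refine ⟨s, s.2, n, ?_⟩
  have h2 : b * (X.presheaf.stalkSpecializes hy) s.1 = X.presheaf.stalkSpecializes hy n := hs
  have h3 := congrArg (X.presheaf.stalkSpecializes (spec y)) h2
  rw [map_mul, spec_spec_ring, spec_spec_ring, hb, mul_comm] at h3
  exact h3.symm

/-- A section of a torsion free rank one module generating in codimension one generates. -/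
theorem bijective_of_codim_one [IsLocallyNoetherian X] (hX : Pi1.IsNormalScheme X) {F : X.Modules}
    (hF : Inj F) (z : X) (s : F.presheaf.stalk z)
    (hs : IsGen F (η X) (F.presheaf.stalkSpecializes (spec z) s))
    (h : ∀ y : X, ∀ hy : y ⤳ z, ringKrullDim (X.presheaf.stalk y) = 1 →
      IsGen F y (F.presheaf.stalkSpecializes hy s)) : IsGen F z s := by
  constructor
  · intro a b hab
    have h1 := congrArg (F.presheaf.stalkSpecializes (spec z)) hab
    simp only at h1
    rw [ModStalk.stalkSpecializes_smul, ModStalk.stalkSpecializes_smul] at h1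
    exact stalkSpecializes_injective z (hs.1 h1)
  · intro v
    obtain ⟨a, ha⟩ := hs.2 (F.presheaf.stalkSpecializes (spec z) v)
    simp only at ha
    obtain ⟨c, rfl⟩ := mem_range_stalk_of_codim_one hX z a (by
      intro y hy hy1
      obtain ⟨b, hb⟩ := (h y hy hy1).2 (F.presheaf.stalkSpecializes hy v)
      have h2 := congrArg (F.presheaf.stalkSpecializes (spec y)) hb
      simp only at h2
      rw [ModStalk.stalkSpecializes_smul, spec_spec, spec_spec, ← ha] at h2
      exact ⟨b, hs.1 h2⟩)
    refine ⟨c, hF z ?_⟩
    simp only
    rw [ModStalk.stalkSpecializes_smul, ha]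

end K475.Codim1Ring
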