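import Groth.Agent.SDiv.K475.ClosedPt
import Groth.Agent.CycB.CohStalk
import Groth.Agent.Divis.ReflexAlg
import Groth.Agent.Divis.StalkMod
import Groth.Prelude.Def_RefHull

/-!
# Reflexivity of stalks is stable under generization
-/

set_option autoImplicit false
universe u
open CategoryTheory CategoryTheory.Limits AlgebraicGeometry TopologicalSpace Opposite

namespace K475.RefStalk

open Groth.Agent.CycB

variable {X : Scheme.{u}}

/-- Stalks of a coherent module at generizations of a point where it is reflexive are reflexive. -/
theorem isReflexiveAt_of_specializes [IsLocallyNoetherian X] {F : X.Modules} (hF : Coh.IsCoh F)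
    {x y : X} (h : y ⤳ x) (hr : RefHull.IsReflexiveAt F x) : RefHull.IsReflexiveAt F y := by
  let i1 := CohStalk.specModule F h
  let i2 := (X.presheaf.stalkSpecializes h).hom.toAlgebra
  have i3 := LocQuot.isLocalization_stalkSpecializes h
  have i4 := CohStalk.isLocalizedModule_stalkSpecializes F hF.1 h
  have i5 := Groth.Agent.Divis.StalkMod.finite_stalk hF x
  have i6 : Module.IsReflexive (X.presheaf.stalk x) (F.presheaf.stalk x) := hr
  have i7 : IsScalarTower (X.presheaf.stalk x) (X.presheaf.stalk y) (F.presheaf.stalk y) := by
    refine ⟨fun a b m => ?_⟩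
    change ((X.presheaf.stalkSpecializes h).hom a * b) • m = _
    rw [mul_smul]
    rfl
  exact Groth.Agent.Divis.ReflexAlg.isReflexive_of_isLocalizedModule
    (RingHom.ker (Cyc.specMap x y h)).primeCompl (X.presheaf.stalk y) (CohStalk.specLin F h)

end K475.RefStalk
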