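import Groth.Agent.SDiv.K475.Ddual
import Groth.Agent.Ega2.QCohLocal
import Groth.Agent.Dcoh.FreeSec

/-!
# Rank one modules: generators of stalks
-/

set_option autoImplicit false
universe u
open CategoryTheory CategoryTheory.Limits AlgebraicGeometry TopologicalSpace Opposite

namespace K475.Rank1

open RefHull Groth.Agent.CycB Groth.Agent.CycB.ModStalk Groth.Agent.Dcoh.StalkRestrict K475.GenStalk
  K475.Ddual

section general

variable {X : Scheme.{u}}

/-- Generators of stalks of restrictions. -/
theorem isGen_ρo {U : X.Opens} {x : X} (hx : x ∈ U) {F : X.Modules}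
    {t : (F.restrict U.ι).presheaf.stalk (pt U hx)} (ht : IsGen (F.restrict U.ι) (pt U hx) t) :
    IsGen F x (ρo U hx F t) := by
  have h1 : (fun a : X.presheaf.stalk x => a • ρo U hx F t) =
      (ρo U hx F) ∘ (fun b => b • t) ∘ (σo U hx) := by
    funext a
    simp only [Function.comp_apply, ρo_smul]
  change Function.Bijective (fun a : X.presheaf.stalk x => a • ρo U hx F t)
  rw [h1]
  exact (ρo U hx F).bijective.comp (ht.comp (σo U hx).bijective)

theorem isGen_ρo_symm {U : X.Opens} {x : X} (hx : x ∈ U) {F : X.Modules}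
    {t : F.presheaf.stalk x} (ht : IsGen F x t) :
    IsGen (F.restrict U.ι) (pt U hx) ((ρo U hx F).symm t) := by
  have h1 : (fun a => a • (ρo U hx F).symm t) =
      (ρo U hx F).symm ∘ (fun b : X.presheaf.stalk x => b • t) ∘ (σo U hx).symm := by
    funext a
    simp only [Function.comp_apply, ρo_symm_smul, RingEquiv.apply_symm_apply]
  change Function.Bijective (fun a => a • (ρo U hx F).symm t)
  rw [h1]
  exact (ρo U hx F).symm.bijective.comp (ht.comp (σo U hx).symm.bijective)

/-- Generators and bijections of stalks. -/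
theorem isGen_map {F G : X.Modules} (x : X)
    (φ : F.presheaf.stalk x →ₗ[X.presheaf.stalk x] G.presheaf.stalk x) (hφ : Function.Bijective φ)
    {t : F.presheaf.stalk x} (ht : IsGen F x t) : IsGen G x (φ t) := by
  have h1 : (fun a : X.presheaf.stalk x => a • φ t) = φ ∘ (fun a => a • t) := by
    funext a
    rw [Function.comp_apply, map_smul]
  change Function.Bijective (fun a : X.presheaf.stalk x => a • φ t)
  rw [h1]
  exact hφ.comp ht

theorem isInvertible_of_iso {L M : X.Modules} (e : L ≅ M) (hL : PicF.IsInvertible L) :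
    PicF.IsInvertible M := fun y => by
  obtain ⟨U, hU, ⟨i⟩⟩ := hL y
  exact ⟨U, hU, ⟨(Scheme.Modules.restrictFunctor U.ι).mapIso e.symm ≪≫ i⟩⟩

theorem isInvertible_structureModule (X : Scheme.{u}) :
    PicF.IsInvertible (Coh.structureModule X) :=
  fun _ => ⟨⊤, trivial, ⟨Scheme.Modules.restrictUnitIso _⟩⟩

/-- The linear equivalence attached to a generator. -/
noncomputable def genEquiv {F : X.Modules} {x : X} {t : F.presheaf.stalk x} (ht : IsGen F x t) :
    X.presheaf.stalk x ≃ₗ[X.presheaf.stalk x] F.presheaf.stalk x :=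
  LinearEquiv.ofBijective (LinearMap.toSpanSingleton (X.presheaf.stalk x) (F.presheaf.stalk x) t) ht

theorem genEquiv_apply {F : X.Modules} {x : X} {t : F.presheaf.stalk x} (ht : IsGen F x t)
    (a : X.presheaf.stalk x) : genEquiv ht a = a • t := rfl

/-- A coherent module with a generator at a point is invertible near the point. -/
theorem exists_isInvertible_nhd [IsLocallyNoetherian X] {F : X.Modules} (hF : Coh.IsCoh F) {x : X}
    {t : F.presheaf.stalk x} (ht : IsGen F x t) :
    ∃ V : X.Opens, x ∈ V ∧ Nonempty (F.restrict V.ι ≅ Coh.structureModule (V : Scheme.{u})) := by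
  have hfree : Module.Free (X.presheaf.stalk x) (F.presheaf.stalk x) :=
    Module.Free.of_equiv (genEquiv ht)
  obtain ⟨V, n, hxV, ⟨e⟩⟩ := Groth.Agent.Divis.StalkMod.exists_free_nhd hF x hfree
  have h1 := isGen_map (pt V hxV) (stalkMapₗ e.hom (pt V hxV))
    (K476.HomSh4.bijective_stalkMapₗ_of_isIso e.hom _) (isGen_ρo_symm hxV ht)
  let E := (genEquiv h1).trans (Groth.Agent.Dcoh.FreeSec.stalkFree n (pt V hxV)).symm
  have hn : n = 1 := by
    have h2 := E.finrank_eq
    rw [Module.finrank_self, Module.finrank_fin_fun] at h2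
    exact h2.symm
  subst hn
  exact ⟨V, hxV, ⟨e ≪≫ (Groth.Agent.Ega2.QCohLocal.freeModOneIso _).symm⟩⟩

end general

section integral

variable {X : Scheme.{u}} [IsIntegral X] {F : X.Modules}

theorem eta_mem_of_dense {U : X.Opens} (hU : Dense (U : Set X)) : η X ∈ U := by
  obtain ⟨x, hx⟩ := hU.nonempty
  exact mem_of_nonempty (x := x) hx

theorem dense_of_eta_mem {U : X.Opens} (hU : η X ∈ U) : Dense (U : Set X) :=
  U.2.dense ⟨_, hU⟩

/-- Rank one modules have a generator at the generic point. -/
theorem exists_isGen_of_genInvertible (h : GenInvertible F) : ∃ t, IsGen F (η X) t := by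
  obtain ⟨U, hU, hinv⟩ := h
  obtain ⟨t, ht⟩ := exists_isGen hinv (pt U (eta_mem_of_dense hU))
  exact ⟨_, isGen_ρo (eta_mem_of_dense hU) ht⟩

/-- Coherent modules with a generator at the generic point have rank one. -/
theorem genInvertible_of_isGen [IsLocallyNoetherian X] (hF : Coh.IsCoh F)
    {t : F.presheaf.stalk (η X)} (ht : IsGen F (η X) t) : GenInvertible F := by
  obtain ⟨V, hV, ⟨e⟩⟩ := exists_isInvertible_nhd hF ht
  exact ⟨V, dense_of_eta_mem hV, isInvertible_of_iso e.symm (isInvertible_structureModule _)⟩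

/-- Every nonzero element of a one dimensional generic stalk is a generator. -/
theorem isGen_of_ne_zero {t : F.presheaf.stalk (η X)} (ht : IsGen F (η X) t)
    {s : F.presheaf.stalk (η X)} (hs : s ≠ 0) : IsGen F (η X) s := by
  obtain ⟨a, rfl⟩ := ht.2 s
  have ha : a ≠ 0 := by
    rintro rfl
    exact hs (zero_smul _ _)
  exact ht.unit_smul (IsUnit.mk0 (G₀ := X.functionField) a ha)

theorem IsGen.ne_zero {t : F.presheaf.stalk (η X)} (ht : IsGen F (η X) t) : t ≠ 0 := by
  rintro rfl
  have h1 : (1 : X.presheaf.stalk (η X)) = 0 := ht.1 (by simp)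
  exact one_ne_zero h1

/-- `a • t` lies in `F_x` iff ... for a generator `t` of `F_x`. -/
theorem smul_mem_range_iff {x : X} {t : F.presheaf.stalk x} (ht : IsGen F x t)
    (ht' : IsGen F (η X) (F.presheaf.stalkSpecializes (spec x) t)) (a : X.presheaf.stalk (η X)) :
    a • F.presheaf.stalkSpecializes (spec x) t ∈ Set.range (F.presheaf.stalkSpecializes (spec x)) ↔
      a ∈ Set.range (X.presheaf.stalkSpecializes (spec x)) := by
  constructor
  · rintro ⟨m, hm⟩
    obtain ⟨b, rfl⟩ := ht.2 m
    simp only at hm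
    rw [ModStalk.stalkSpecializes_smul] at hm
    exact ⟨b, ht'.1 hm⟩
  · rintro ⟨b, rfl⟩
    exact ⟨b • t, ModStalk.stalkSpecializes_smul _ _ _⟩

end integral

end K475.Rank1
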