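import Groth.Agent.SDiv.K475.OrdEta

/-!
# Orders of elements of the generic stalk of a torsion free rank one module on a normal scheme
-/

set_option autoImplicit false
universe u
open CategoryTheory CategoryTheory.Limits AlgebraicGeometry TopologicalSpace Opposite

namespace K475.Ref1Ord

open RefHull Groth.Agent.CycB Groth.Agent.CycB.ModStalk K475.GenStalk K475.Rank1 K475.Codim1Ring
  K475.OrdEta

variable {X : Scheme.{u}}

theorem dim_of_coheight {x : X} (hx : Order.coheight x = 1) :
    ringKrullDim (X.presheaf.stalk x) = 1 := by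
  rw [ringKrullDim_stalk_eq_coheight, hx]
  rfl

theorem coheight_of_dim {x : X} (hx : ringKrullDim (X.presheaf.stalk x) = 1) :
    Order.coheight x = 1 := by
  rw [ringKrullDim_stalk_eq_coheight] at hx
  exact_mod_cast hx

theorem isDVR_of_coheight [IsIntegral X] [IsLocallyNoetherian X] (hX : Pi1.IsNormalScheme X) {x : X}
    (hx : Order.coheight x = 1) : IsDiscreteValuationRing (X.presheaf.stalk x) := by
  have h2 := (hX x).2
  have h3 := Groth.Agent.Divis.ReflexAlg.isPrincipalIdealRing_of_isIntegrallyClosed
    (dim_of_coheight hx).le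
  refine { h3 with not_a_field' := fun h => ?_ }
  have h4 := dim_of_coheight hx
  have h5 : IsField (X.presheaf.stalk x) := IsLocalRing.isField_iff_maximalIdeal_eq.mpr h
  rw [ringKrullDim_eq_zero_of_isField h5] at h4
  exact absurd h4 (by decide)

/-- Coherent, torsion free, of rank one. -/
structure R1 [IsIntegral X] (F : X.Modules) : Prop where
  coh : Coh.IsCoh F
  inj : Inj F
  gen : ∃ t, IsGen F (η X) t

variable [IsIntegral X] [IsLocallyNoetherian X] {F G : X.Modules}

theorem R1.of_isRef1 (h : IsRef1 F) : R1 F :=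
  ⟨h.1, K475.Ddual.inj_of_isReflexive h.1 h.2.1, exists_isGen_of_genInvertible h.2.2⟩

omit [IsLocallyNoetherian X] in
theorem R1.isGen_of_ne_zero (h : R1 F) {v : F.presheaf.stalk (η X)} (hv : v ≠ 0) :
    IsGen F (η X) v := by
  obtain ⟨t, ht⟩ := h.gen
  exact K475.Rank1.isGen_of_ne_zero ht hv

omit [IsLocallyNoetherian X] in
/-- Generators of stalks specialize to generators of the generic stalk. -/
theorem R1.isGen_spec (h : R1 F) {x : X} {t : F.presheaf.stalk x} (ht : IsGen F x t) :
    IsGen F (η X) (F.presheaf.stalkSpecializes (spec x) t) := by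
  apply h.isGen_of_ne_zero
  intro h0
  have h1 : t = 0 := h.inj x (h0.trans (map_zero _).symm)
  rw [h1] at ht
  have h2 : (1 : X.presheaf.stalk x) = 0 := ht.1 (by simp)
  exact one_ne_zero h2

/-- Stalks at points of codimension one are free of rank one. -/
theorem R1.exists_isGen (h : R1 F) (hX : Pi1.IsNormalScheme X) {x : X}
    (hx : Order.coheight x = 1) : ∃ t, IsGen F x t := by
  have h2 := isDVR_of_coheight hX hx
  have h3 := Groth.Agent.Divis.StalkMod.finite_stalk h.coh x
  have h4 := isTorsionFree_of_inj h.inj x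
  have h5 : Module.Free (X.presheaf.stalk x) (F.presheaf.stalk x) :=
    Module.free_of_finite_type_torsion_free'
  let i1 := CohStalk.specModule F (spec x)
  let i2 := K475.Codim1.ffModule F
  have i3 := K475.Codim1.isScalarTower_eta F x
  have i4 := K475.Codim1.isLocalizedModule_eta F h.coh.1 x
  have h6 := Module.finrank_of_isLocalizedModule_of_free X.functionField
    (nonZeroDivisors (X.presheaf.stalk x)) (CohStalk.specLin F (spec x))
  have h7 : Module.finrank X.functionField (F.presheaf.stalk (η X)) = 1 := by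
    obtain ⟨t, ht⟩ := h.gen
    have := (genEquiv ht).finrank_eq
    rw [Module.finrank_self] at this
    exact this.symm
  rw [h7] at h6
  obtain ⟨b⟩ := (finrank_eq_one_iff (K := X.presheaf.stalk x) (V := F.presheaf.stalk x) Unit).mp
    h6.symm
  refine ⟨b (), ?_, ?_⟩
  · intro c d hcd
    have h8 := congrArg (fun m => b.repr m ()) hcd
    simpa using h8
  · intro m
    refine ⟨b.repr m (), ?_⟩
    have h9 := b.sum_repr m
    simpa using h9

/-- The order with respect to a generator of the stalk. -/
theorem R1.sord_smul_gen (h : R1 F) {x : X} (hx : Order.coheight x = 1) {t : F.presheaf.stalk x}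
    (ht : IsGen F x t) (a : X.presheaf.stalk (η X)) (ha : a ≠ 0) :
    sord F x (a • F.presheaf.stalkSpecializes (spec x) t) = Scheme.ord (X := X) a x :=
  K475.OrdEta.sord_smul_gen hx ht (h.isGen_spec ht) a ha

omit [IsLocallyNoetherian X] in
theorem R1.smul_ne_zero (h : R1 F) {v : F.presheaf.stalk (η X)} (hv : v ≠ 0)
    {a : X.presheaf.stalk (η X)} (ha : a ≠ 0) : a • v ≠ 0 := by
  intro h0
  exact ha ((h.isGen_of_ne_zero hv).1 (h0.trans (zero_smul _ v).symm))

/-- Additivity of the order. -/
theorem R1.sord_smul (h : R1 F) (hX : Pi1.IsNormalScheme X) {x : X} (hx : Order.coheight x = 1)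
    {v : F.presheaf.stalk (η X)} (hv : v ≠ 0) {a : X.presheaf.stalk (η X)} (ha : a ≠ 0) :
    sord F x (a • v) = Scheme.ord (X := X) a x + sord F x v := by
  obtain ⟨t, ht⟩ := h.exists_isGen hX hx
  obtain ⟨b, rfl⟩ := (h.isGen_spec ht).2 v
  have hb : b ≠ 0 := by
    rintro rfl
    exact hv (zero_smul _ _)
  simp only
  rw [smul_smul, h.sord_smul_gen hx ht _ hb,
    h.sord_smul_gen hx ht _ (mul_ne_zero (M₀ := X.functionField) ha hb)]
  exact Scheme.ord_mul (X := X) ha hb

omit [IsLocallyNoetherian X] in
theorem mem_range_ring_iff {x : X} (a : X.presheaf.stalk (η X)) :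
    a ∈ Set.range (X.presheaf.stalkSpecializes (spec x)) ↔
      (a : X.functionField) ∈ Set.range (algebraMap (X.presheaf.stalk x) X.functionField) :=
  Iff.rfl

/-- Rational functions of nonnegative order lie in the local ring. -/
theorem mem_range_iff_ord (hX : Pi1.IsNormalScheme X) {x : X} (hx : Order.coheight x = 1)
    {a : X.presheaf.stalk (η X)} (ha : a ≠ 0) :
    a ∈ Set.range (X.presheaf.stalkSpecializes (spec x)) ↔ 0 ≤ Scheme.ord (X := X) a x := by
  rw [mem_range_ring_iff]
  have := isDVR_of_coheight hX hx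
  constructor
  · exact fun h => Groth.Agent.Ega4dB.CDivNormal.ord_nonneg_of_mem_range x a ha h
  · intro h
    by_contra hc
    exact absurd h (not_le.mpr (Groth.Agent.Ega4dB.CDivNormal.ord_neg_of_not_mem_range x a ha hc))

/-- The stalk at a point of codimension one consists of the elements of nonnegative order. -/
theorem R1.mem_range_iff (h : R1 F) (hX : Pi1.IsNormalScheme X) {x : X}
    (hx : Order.coheight x = 1) {v : F.presheaf.stalk (η X)} (hv : v ≠ 0) :
    v ∈ Set.range (F.presheaf.stalkSpecializes (spec x)) ↔ 0 ≤ sord F x v := by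
  obtain ⟨t, ht⟩ := h.exists_isGen hX hx
  obtain ⟨b, rfl⟩ := (h.isGen_spec ht).2 v
  have hb : b ≠ 0 := by
    rintro rfl
    exact hv (zero_smul _ _)
  simp only
  rw [h.sord_smul_gen hx ht _ hb, ← mem_range_iff_ord hX hx hb]
  exact smul_mem_range_iff ht (h.isGen_spec ht) b

/-- An element of the stalk is a generator iff its order is zero. -/
theorem R1.isGen_iff (h : R1 F) (hX : Pi1.IsNormalScheme X) {x : X}
    (hx : Order.coheight x = 1) {t : F.presheaf.stalk x} (ht : t ≠ 0) :
    IsGen F x t ↔ sord F x (F.presheaf.stalkSpecializes (spec x) t) = 0 := by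
  obtain ⟨t₀, ht₀⟩ := h.exists_isGen hX hx
  constructor
  · intro hg
    have h1 := h.sord_smul_gen hx hg 1 one_ne_zero
    rw [one_smul] at h1
    rw [h1]
    exact Groth.Agent.Ega4dB.CDivUFD.ord_one x
  · intro h0
    obtain ⟨b, rfl⟩ := ht₀.2 t
    simp only at h0 ht ⊢
    have hb : b ≠ 0 := by
      rintro rfl
      exact ht (zero_smul _ _)
    have hb' : X.presheaf.stalkSpecializes (spec x) b ≠ 0 := fun h2 =>
      hb (stalkSpecializes_injective x (h2.trans (map_zero _).symm))
    rw [stalkSpecializes_smul, h.sord_smul_gen hx ht₀ _ hb'] at h0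
    apply ht₀.unit_smul
    have h3 : (X.presheaf.stalkSpecializes (spec x) b : X.functionField)⁻¹ ∈
        Set.range (algebraMap (X.presheaf.stalk x) X.functionField) := by
      have h4 : 0 ≤ Scheme.ord (X.presheaf.stalkSpecializes (spec x) b : X.functionField)⁻¹ x := by
        rw [Groth.Agent.Ega4dB.CDivUFD.ord_inv x _ hb', h0]
        simp
      exact (mem_range_iff_ord hX hx (inv_ne_zero (G₀ := X.functionField) hb')).mpr h4
    obtain ⟨c, hc⟩ := h3
    refine IsUnit.of_mul_eq_one c (stalkSpecializes_injective x ?_)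
    rw [map_mul, map_one]
    change (X.presheaf.stalkSpecializes (spec x) b : X.functionField) *
      algebraMap (X.presheaf.stalk x) X.functionField c = 1
    rw [hc]
    exact mul_inv_cancel₀ (G₀ := X.functionField) hb'

/-- Orders are preserved by maps bijective on the stalk. -/
theorem R1.sord_map (hF : R1 F) (hG : R1 G) (hX : Pi1.IsNormalScheme X) {x : X}
    (hx : Order.coheight x = 1) (φ : F ⟶ G) (hφ : Function.Bijective (stalkMapₗ φ x))
    {v : F.presheaf.stalk (η X)} (hv : v ≠ 0) :
    sord G x (stalkMapₗ φ (η X) v) = sord F x v := by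
  obtain ⟨t, ht⟩ := hF.exists_isGen hX hx
  obtain ⟨b, rfl⟩ := (hF.isGen_spec ht).2 v
  have hb : b ≠ 0 := by
    rintro rfl
    exact hv (zero_smul _ _)
  simp only
  rw [map_smul, stalkMapₗ_spec, hF.sord_smul_gen hx ht _ hb,
    hG.sord_smul_gen hx (isGen_map x _ hφ ht) _ hb]

end K475.Ref1Ord
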