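import Groth.Agent.SDiv.K475.Ref1Ord

/-!
# A criterion for reflexivity; orders of rational functions
-/

set_option autoImplicit false
universe u
open CategoryTheory CategoryTheory.Limits AlgebraicGeometry TopologicalSpace Opposite

namespace K475.RefCrit

open RefHull Groth.Agent.CycB Groth.Agent.CycB.ModStalk K475.GenStalk K475.Rank1 K475.Ref1Ord
  K475.Ddual

variable {X : Scheme.{u}} [IsIntegral X] [IsLocallyNoetherian X]

/-- A coherent torsion free module determined in codimension one is reflexive. -/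
theorem isReflexive_of_codim_one (hX : Pi1.IsNormalScheme X) {L : X.Modules} (hL : Coh.IsCoh L)
    (hinj : Inj L)
    (h : ∀ (x : X) (v : L.presheaf.stalk (η X)), (∀ y : X, y ⤳ x → Order.coheight y = 1 →
      v ∈ Set.range (L.presheaf.stalkSpecializes (spec y))) →
        v ∈ Set.range (L.presheaf.stalkSpecializes (spec x))) : IsReflexive L := by
  change IsIso (bidualMap L)
  rw [K476.HomSh4.isIso_iff_stalk]
  intro x
  have hη := bijective_bidual_eta hL
  constructor
  · intro m m' hm
    apply hinj x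
    apply hη.1
    rw [stalkMapₗ_spec, stalkMapₗ_spec, hm]
  · intro w
    obtain ⟨v, hv⟩ := hη.2 ((ddual L).presheaf.stalkSpecializes (spec x) w)
    obtain ⟨m, rfl⟩ := h x v (by
      intro y hy hy1
      obtain ⟨n, hn⟩ := surjective_bidual_of_dim_le_one hX hL y (dim_of_coheight hy1).le
        ((ddual L).presheaf.stalkSpecializes hy w)
      refine ⟨n, hη.1 ?_⟩
      rw [stalkMapₗ_spec, hn, spec_spec, hv])
    refine ⟨m, inj_ddual hL x ?_⟩
    rw [← stalkMapₗ_spec, hv]

/-- Rational functions of given order at a point of codimension one. -/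
theorem exists_ord_eq (hX : Pi1.IsNormalScheme X) {x : X} (hx : Order.coheight x = 1) (n : ℤ) :
    ∃ a : X.functionField, a ≠ 0 ∧ Scheme.ord a x = n := by
  have hDVR := isDVR_of_coheight hX hx
  have : Ring.KrullDimLE 1 (X.presheaf.stalk x) := krullDimLE_of_coheight_le hx.le
  obtain ⟨ϖ, hϖ⟩ := IsDiscreteValuationRing.exists_irreducible (X.presheaf.stalk x)
  have h0 : algebraMap (X.presheaf.stalk x) X.functionField ϖ ≠ 0 := fun h =>
    hϖ.ne_zero (IsFractionRing.injective (X.presheaf.stalk x) X.functionField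
      (by rw [h, map_zero]))
  have h1 : Scheme.ord (algebraMap (X.presheaf.stalk x) X.functionField ϖ) x = 1 := by
    rw [Scheme.ord_eq_iff hx h0]
    exact Ring.ordFrac_irreducible (K := X.functionField) hϖ
  have h2 : ∀ k : ℕ, Scheme.ord (algebraMap (X.presheaf.stalk x) X.functionField ϖ ^ k) x = k := by
    intro k
    induction k with
    | zero => simpa using Groth.Agent.Ega4dB.CDivUFD.ord_one x
    | succ k ih =>
      rw [pow_succ, Scheme.ord_mul (pow_ne_zero k h0) h0, ih, h1]
      push_cast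
      ring
  obtain ⟨m, rfl | rfl⟩ := n.eq_nat_or_neg
  · exact ⟨_, pow_ne_zero m h0, h2 m⟩
  · refine ⟨(algebraMap (X.presheaf.stalk x) X.functionField ϖ ^ m)⁻¹,
      inv_ne_zero (pow_ne_zero m h0), ?_⟩
    rw [Groth.Agent.Ega4dB.CDivUFD.ord_inv x _ (pow_ne_zero m h0), h2]

/-- The order of an element is determined by the multiples lying in the stalk. -/
theorem sord_eq_of_forall (hX : Pi1.IsNormalScheme X) {F : X.Modules} (hF : R1 F) {x : X}
    (hx : Order.coheight x = 1) {v : F.presheaf.stalk (η X)} (hv : v ≠ 0) {n : ℤ}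
    (h : ∀ a : X.presheaf.stalk (η X), a ≠ 0 →
      (a • v ∈ Set.range (F.presheaf.stalkSpecializes (spec x)) ↔
        - n ≤ Scheme.ord (X := X) a x)) : K475.OrdEta.sord F x v = n := by
  have key : ∀ a : X.presheaf.stalk (η X), a ≠ 0 →
      (0 ≤ Scheme.ord (X := X) a x + K475.OrdEta.sord F x v ↔ - n ≤ Scheme.ord (X := X) a x) := by
    intro a ha
    rw [← h a ha, hF.mem_range_iff hX hx (hF.smul_ne_zero hv ha), hF.sord_smul hX hx hv ha]
  obtain ⟨a, ha, hao⟩ := exists_ord_eq hX hx (-n)
  obtain ⟨b, hb, hbo⟩ := exists_ord_eq hX hx (-K475.OrdEta.sord F x v)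
  have h1 := (key a ha).mpr hao.ge
  have h2 := (key b hb).mp (by rw [hbo]; simp)
  rw [hao] at h1
  rw [hbo] at h2
  omega

end K475.RefCrit
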