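import Groth.Agent.SDiv.K475.DivCoh
import Groth.Agent.SDiv.K475.RefCrit

/-!
# `O(D)` is a rank one reflexive module with a rational section of divisor `D`
-/

set_option autoImplicit false
universe u
open CategoryTheory CategoryTheory.Limits AlgebraicGeometry TopologicalSpace Opposite

noncomputable section

namespace K475.DivRef1

open RefHull Groth.Agent.CycB Groth.Agent.CycB.ModStalk K475.GenStalk K475.KSub K475.Rank1
  K475.Ref1Ord K475.DivSheaf K475.DivCoh K475.RefCrit

variable {X : Scheme.{u}} [IsIntegral X] [IsLocallyNoetherian X] (hX : Pi1.IsNormalScheme X)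
  {D : X → ℤ} (hD : LocallyFiniteSupport D)

omit [IsLocallyNoetherian X] in
theorem eq_eta {y : X} (h : y ⤳ η X) : y = η X := (h.antisymm (spec y)).eq

omit [IsLocallyNoetherian X] in
theorem coheight_eta_ne : Order.coheight (η X) ≠ 1 := by
  intro h
  have h1 := dim_of_coheight h
  have : ringKrullDim X.functionField = 1 := h1
  rw [ringKrullDim_eq_zero_of_field] at this
  exact absurd this (by decide)

include hD in
/-- The generic stalk of `O(D)` is the function field. -/
theorem surjective_val_eta : Function.Surjective (val (P hX D) (η X)) := by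
  intro a
  by_cases ha : a = 0
  · exact ⟨0, by rw [map_zero, ha]⟩
  · exact (range_val_iff hX hD (η X) ha).mpr fun y hy hy1 => absurd (eq_eta hy ▸ hy1) coheight_eta_ne

theorem isGen_iff_val {t : (O hX D).presheaf.stalk (η X)} (ht : val (P hX D) (η X) t = 1) :
    IsGen (O hX D) (η X) t := by
  constructor
  · intro a b hab
    have h1 := congrArg (val (P hX D) (η X)) hab
    simp only at h1
    rw [val_smul_eta, val_smul_eta, ht, mul_one, mul_one] at h1
    exact h1
  · intro m
    refine ⟨val (P hX D) (η X) m, val_injective (P hX D) _ ?_⟩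
    simp only
    rw [val_smul_eta, ht, mul_one]

include hD in
theorem r1 : R1 (O hX D) := by
  obtain ⟨t, ht⟩ := surjective_val_eta hX hD 1
  exact ⟨isCoh hX hD, inj_mod _, t, isGen_iff_val hX ht⟩

include hD in
theorem isRef1 : IsRef1 (O hX D) := by
  obtain ⟨t, ht⟩ := surjective_val_eta hX hD 1
  refine ⟨isCoh hX hD, isReflexive_of_codim_one hX (isCoh hX hD) (inj_mod _) ?_,
    genInvertible_of_isGen (isCoh hX hD) (isGen_iff_val hX ht)⟩
  intro x v hv
  by_cases h0 : v = 0
  · exact ⟨0, by rw [map_zero, h0]⟩
  have h1 : val (P hX D) (η X) v ≠ 0 := fun h =>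
    h0 (val_injective _ _ (h.trans (map_zero _).symm))
  rw [mem_range_spec_iff, range_val_iff hX hD x h1]
  intro y hy hy1
  have h2 := hv y hy hy1
  rw [mem_range_spec_iff, range_val_iff hX hD y h1] at h2
  exact h2 y specializes_rfl hy1


include hD in
theorem exists_section : ∃ t : (O hX D).presheaf.stalk (η X), t ≠ 0 ∧
    ∀ x : X, Order.coheight x = 1 → K475.OrdEta.sord (O hX D) x t = D x := by
  obtain ⟨t, ht⟩ := surjective_val_eta hX hD 1
  have ht0 : t ≠ 0 := by
    rintro rfl
    rw [map_zero] at ht
    exact zero_ne_one ht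
  refine ⟨t, ht0, fun x hx => ?_⟩
  refine sord_eq_of_forall hX (r1 hX hD) hx ht0 fun a ha => ?_
  have h1 : val (P hX D) (η X) (a • t) = a := by
    rw [val_smul_eta, ht, mul_one]
  rw [mem_range_spec_iff, h1, range_val_iff hX hD x ha]
  constructor
  · intro h
    exact h x specializes_rfl hx
  · intro h y hy hy1
    rw [Groth.Agent.Ega4dB.CDivUFD.eq_of_specializes_of_coheight y x hy hy1 hx]
    exact h

end K475.DivRef1

end
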