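import Groth.Agent.CycB.OrdFrac
import Groth.Agent.CycB.C1Basic
import Groth.Agent.Ega4dB.CDivUFD
import Groth.Agent.SDiv.K475.Rank1
import Groth.Agent.SDiv.K475.Codim1Ring

/-!
# Orders of rational sections of rank one modules along codimension one points
-/

set_option autoImplicit false
universe u
open CategoryTheory CategoryTheory.Limits AlgebraicGeometry TopologicalSpace Opposite

namespace K475.OrdEta

open Groth.Agent.CycB Groth.Agent.CycB.ModStalk Groth.Agent.CycB.C1Basic K475.GenStalk
  K475.Rank1 K475.Codim1Ring

variable {X : Scheme.{u}} [IsIntegral X]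

theorem residue_injective : Function.Injective (X.residue (η X)).hom := by
  let f : X.functionField →+* X.residueField (η X) := (X.residue (η X)).hom
  exact f.injective

theorem specMap_injective {x : X} (h : η X ⤳ x) :
    Function.Injective (Cyc.specMap x (η X) h) := by
  intro a b hab
  have h1 : X.presheaf.stalkSpecializes h a = X.presheaf.stalkSpecializes h b :=
    residue_injective hab
  exact IsFractionRing.injective (X.presheaf.stalk x) X.functionField h1

/-- On an integral scheme the order along the generic point is the order on the local ring. -/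
theorem ordAt_residue {x : X} (h : η X ⤳ x) (g : X.functionField) :
    Cyc.ordAt x (η X) h (X.residue (η X) g) =
      CycAlg.ordFrac (X.presheaf.stalk x) X.functionField g := by
  let e : X.presheaf.stalk x ≃+* Cyc.LocQuot x (η X) h :=
    RingEquiv.ofBijective (Ideal.Quotient.mk _) ⟨by
      rw [injective_iff_map_eq_zero]
      intro a ha
      rw [Ideal.Quotient.eq_zero_iff_mem, RingHom.mem_ker] at ha
      exact specMap_injective h (ha.trans (map_zero _).symm), Ideal.Quotient.mk_surjective⟩
  let σ : X.functionField ≃+* X.residueField (η X) :=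
    RingEquiv.ofBijective (X.residue (η X)).hom ⟨residue_injective, X.residue_surjective _⟩
  exact OrdFrac.ordFrac_congr e σ (fun a => rfl) g

theorem cycOrdFrac_eq_ord [IsLocallyNoetherian X] {x : X} (hx : Order.coheight x = 1)
    (g : X.functionField) :
    CycAlg.ordFrac (X.presheaf.stalk x) X.functionField g = Scheme.ord g x := by
  have h1 : Ring.KrullDimLE 1 (X.presheaf.stalk x) := krullDimLE_of_coheight_le hx.le
  unfold CycAlg.ordFrac
  rw [dif_pos ⟨inferInstance, h1, inferInstance, inferInstance⟩,
    Scheme.ord_eq_ordHom_of_coheight_eq_one hx]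
  change _ = Multiplicative.toAdd ((Ring.ordFrac (X.presheaf.stalk x) g).unzeroD 1)
  generalize Ring.ordFrac (X.presheaf.stalk x) g = a
  induction a with
  | zero => rfl
  | coe a => rfl

theorem ordAt_eq_ord [IsLocallyNoetherian X] {x : X} (hx : Order.coheight x = 1)
    (g : X.functionField) :
    Cyc.ordAt x (η X) (spec x) (X.residue (η X) g) = Scheme.ord g x :=
  (ordAt_residue _ g).trans (cycOrdFrac_eq_ord hx g)

variable {F G : X.Modules}

theorem maximalIdeal_eta : IsLocalRing.maximalIdeal (X.presheaf.stalk (η X)) = ⊥ := by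
  rw [eq_bot_iff]
  intro a ha
  by_contra h0
  exact ha (IsUnit.mk0 (G₀ := X.functionField) a h0)

theorem cl_injective : Function.Injective (cl F (η X)) := by
  rw [← LinearMap.ker_eq_bot, cl, Submodule.ker_mkQ, maximalIdeal_eta, Submodule.bot_smul]

theorem exists_cl (s : Cyc.secFibre F (η X)) : ∃ v, cl F (η X) v = s := cl_surjective _ s

/-- The order at `x` of an element of the generic stalk. -/
noncomputable def sord (F : X.Modules) (x : X) (v : F.presheaf.stalk (η X)) : ℤ :=
  Cyc.secOrdAt F (η X) x (spec x) (cl F (η X) v)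

/-- The order computed with a generator. -/
theorem sord_smul_gen [IsLocallyNoetherian X] {x : X} (hx : Order.coheight x = 1)
    {t : F.presheaf.stalk x} (ht : IsGen F x t)
    (ht' : IsGen F (η X) (F.presheaf.stalkSpecializes (spec x) t))
    (φ : X.presheaf.stalk (η X)) (hφ : φ ≠ 0) :
    sord F x (φ • F.presheaf.stalkSpecializes (spec x) t) = Scheme.ord (X := X) φ x := by
  have hφ : X.residue (η X) φ ≠ 0 := fun h => hφ (residue_injective (h.trans (map_zero _).symm))
  rw [← ordAt_eq_ord hx, sord, map_smul]
  have h1 : ∃ t : F.presheaf.stalk x, Submodule.span (X.presheaf.stalk x) {t} = ⊤ :=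
    ⟨t, ht.span_eq_top⟩
  have ht₀ : IsGen F x h1.choose := ht.of_span_eq_top h1.choose_spec
  obtain ⟨a, ha⟩ := ht.exists_unit_smul ht₀
  change Classical.choose h1 = _ at ha
  rw [Units.smul_def] at ha
  have h4 : cl F (η X) ((F.presheaf.stalkSpecializes (spec x)) (Classical.choose h1)) =
      (X.presheaf.stalkSpecializes (spec x) a) •
            cl F (η X) (F.presheaf.stalkSpecializes (spec x) t) := by
    rw [ha, stalkSpecializes_smul, map_smul]
  have ht₀' : IsGen F (η X) (F.presheaf.stalkSpecializes (spec x) h1.choose) := by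
    change IsGen F (η X) (F.presheaf.stalkSpecializes (spec x) (Classical.choose h1))
    rw [ha, stalkSpecializes_smul]
    exact ht'.unit_smul (a.isUnit.map (X.presheaf.stalkSpecializes (spec x)).hom)
  have h2 : ∃ φ' : X.presheaf.stalk (η X), φ • cl F (η X) (F.presheaf.stalkSpecializes (spec x) t) =
      φ' • (Submodule.Quotient.mk ((F.presheaf.stalkSpecializes (spec x)) (Classical.choose h1)) :
          Cyc.secFibre F (η X)) :=
    exists_smul_cl ht₀' _
  unfold Cyc.secOrdAt
  rw [dif_pos h1, dif_pos h2]
  have h3 := h2.choose_spec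
  set φ₀ := h2.choose
  change _ = φ₀ • cl F (η X) ((F.presheaf.stalkSpecializes (spec x)) (Classical.choose h1)) at h3
  rw [h4, smul_smul, smul_cl_eq_iff ht', map_mul] at h3
  rw [h3] at hφ ⊢
  rw [ordAt_mul _ (left_ne_zero_of_mul hφ) (right_ne_zero_of_mul hφ)]
  have h5 : Cyc.ordAt x (η X) (spec x)
      (X.residue (η X) (X.presheaf.stalkSpecializes (spec x) a)) = 0 :=
    ordAt_specMap_of_isUnit (spec x) a.isUnit
  rw [h5, add_zero]

end K475.OrdEta
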