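import Groth.Agent.SDiv.K475.Ref1Iso
import Groth.Agent.SDiv.K475.RefCrit
import Groth.Agent.SDiv.K476.Ref1

/-!
# Rank one reflexive modules represented by divisors: tensor products, duals
-/

set_option autoImplicit false
universe u
open CategoryTheory CategoryTheory.Limits AlgebraicGeometry TopologicalSpace Opposite

noncomputable section

set_option linter.dupNamespace false

namespace K475.Rep

open RefHull Groth.Agent.CycB Groth.Agent.CycB.ModStalk K475.GenStalk K475.Rank1
  K475.Ref1Ord K475.OrdEta K476.HomSh3 K476.HomSh4 K476.TensStalk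

variable {X : Scheme.{u}} [IsIntegral X] [IsLocallyNoetherian X] {F G : X.Modules}

/-- `F` is a rank one reflexive module with a rational section of divisor `D`. -/
def Rep (F : X.Modules) (D : X → ℤ) : Prop :=
  IsRef1 F ∧ ∃ v : F.presheaf.stalk (η X), v ≠ 0 ∧ ∀ x : X, Order.coheight x = 1 → sord F x v = D x

omit [IsLocallyNoetherian X] in
theorem exists_rep (hF : IsRef1 F) : ∃ D : X → ℤ, Rep F D := by
  obtain ⟨t, ht⟩ := exists_isGen_of_genInvertible hF.2.2
  exact ⟨fun x => sord F x t, hF, t, K475.Rank1.IsGen.ne_zero ht, fun _ _ => rfl⟩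

theorem Rep.iso (hX : Pi1.IsNormalScheme X) {D E : X → ℤ} (hF : Rep F D) (hG : Rep G E)
    (h : ∀ x, Order.coheight x = 1 → D x = E x) : Nonempty (F ≅ G) := by
  obtain ⟨hF, v, hv, hvD⟩ := hF
  obtain ⟨hG, w, hw, hwE⟩ := hG
  obtain ⟨e, -⟩ := K475.Ref1Iso.exists_iso_of_sord_eq hX hF hG hv hw fun x hx => by
    rw [hvD x hx, hwE x hx, h x hx]
  exact ⟨e⟩

theorem rep_structureModule : Rep (Coh.structureModule X) (fun _ => 0) := by
  have h := K476.Ref1.isRef1_structureModule (X := X)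
  refine ⟨h, unitGerm (η X), K475.Rank1.IsGen.ne_zero (isGen_unitGerm _), fun x hx => ?_⟩
  have h1 := (R1.of_isRef1 h).sord_smul_gen hx (isGen_unitGerm x) 1 one_ne_zero
  rw [one_smul, stalkSpecializes_unitGerm] at h1
  rw [h1]
  exact Groth.Agent.Ega4dB.CDivUFD.ord_one x

/-- The reflexive tensor product adds divisors. -/
theorem Rep.tensor (hX : Pi1.IsNormalScheme X) {D E : X → ℤ} (hF : Rep F D) (hG : Rep G E) :
    Rep (ddual (CohB1.tensorMod F G)) (fun x => D x + E x) := by
  obtain ⟨hF, v, hv, hvD⟩ := hF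
  obtain ⟨hG, w, hw, hwE⟩ := hG
  have hF' := R1.of_isRef1 hF
  have hG' := R1.of_isRef1 hG
  have hT : IsRef1 (ddual (CohB1.tensorMod F G)) := K476.Ref1.isRef1_refTensor hF hG
  have hc := K476.Ref1.isCoh_tensorMod hF.1 hG.1
  have hgv := hF'.isGen_of_ne_zero hv
  have hgw := hG'.isGen_of_ne_zero hw
  refine ⟨hT, stalkMapₗ (bidualMap (CohB1.tensorMod F G)) (η X) (stmul v w),
    K475.Rank1.IsGen.ne_zero (K476.Ref1.isGen_bidual hc (isGen_stmul hgv hgw)), fun x hx => ?_⟩
  obtain ⟨s, hs⟩ := hF'.exists_isGen hX hx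
  obtain ⟨t, ht⟩ := hG'.exists_isGen hX hx
  obtain ⟨a, rfl⟩ := (hF'.isGen_spec hs).2 v
  obtain ⟨b, rfl⟩ := (hG'.isGen_spec ht).2 w
  have ha : a ≠ 0 := by
    rintro rfl
    exact hv (zero_smul _ _)
  have hb : b ≠ 0 := by
    rintro rfl
    exact hw (zero_smul _ _)
  have h1 := hvD x hx
  have h2 := hwE x hx
  simp only at h1 h2 ⊢
  rw [hF'.sord_smul_gen hx hs _ ha] at h1
  rw [hG'.sord_smul_gen hx ht _ hb] at h2
  rw [smul_stmul, stmul_smul, smul_smul, ← stalkSpecializes_stmul, map_smul, stalkMapₗ_spec,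
    (R1.of_isRef1 hT).sord_smul_gen hx (K476.Ref1.isGen_bidual hc (isGen_stmul hs ht)) _
      (mul_ne_zero (M₀ := X.functionField) ha hb), ← h1, ← h2]
  exact Scheme.ord_mul (X := X) ha hb

/-! ### The dual -/

omit [IsIntegral X] [IsLocallyNoetherian X] in
/-- Evaluation commutes with specialization. -/
theorem evalStalk_spec {x y : X} (h : y ⤳ x) (θ : (homSh F G).presheaf.stalk x)
    (m : F.presheaf.stalk x) :
    evalStalk F G y ((homSh F G).presheaf.stalkSpecializes h θ) (F.presheaf.stalkSpecializes h m) =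
      G.presheaf.stalkSpecializes h (evalStalk F G x θ m) := by
  obtain ⟨U, hU, g, rfl⟩ := TopCat.Presheaf.exists_germ_eq (homSh F G).presheaf θ
  obtain ⟨V, hV, s, rfl⟩ := TopCat.Presheaf.exists_germ_eq F.presheaf m
  have hW : x ∈ U ⊓ V := ⟨hU, hV⟩
  have e : F.presheaf.germ V x hV s = F.presheaf.germ (U ⊓ V) x hW
      (F.presheaf.map (homOfLE inf_le_right).op s) :=
    (TopCat.Presheaf.germ_res_apply F.presheaf _ x hW s).symm
  rw [e]
  generalize F.presheaf.map (homOfLE inf_le_right).op s = s'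
  obtain ⟨W, hxW, j, n, hn⟩ := isLocSect_of_mem g (U ⊓ V) (homOfLE inf_le_left) s' ⟨x, hW⟩
  have hyW : y ∈ W := h.mem_open W.2 hxW
  have e1 : (homSh F G).presheaf.stalkSpecializes h ((homSh F G).presheaf.germ U x hU g) =
      (homSh F G).presheaf.germ U y (h.mem_open U.2 hU) g :=
    TopCat.Presheaf.germ_stalkSpecializes_apply (homSh F G).presheaf hU h g
  have e2 : F.presheaf.stalkSpecializes h (F.presheaf.germ (U ⊓ V) x hW s') =
      F.presheaf.germ (U ⊓ V) y (h.mem_open (U ⊓ V).2 hW) s' :=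
    TopCat.Presheaf.germ_stalkSpecializes_apply F.presheaf hW h s'
  have e3 : G.presheaf.stalkSpecializes h (G.presheaf.germ W x hxW n) =
      G.presheaf.germ W y hyW n :=
    TopCat.Presheaf.germ_stalkSpecializes_apply G.presheaf hxW h n
  rw [e1, e2, evalStalk_germ, evalStalk_germ]
  have h1 := hn ⟨x, hxW⟩
  have h2 := hn ⟨y, hyW⟩
  dsimp only at h1 h2
  rw [h1, h2, e3]

omit [IsIntegral X] in
/-- The dual generator. -/
theorem exists_dual_gen (hF : Coh.IsCoh F) {x : X} {t : F.presheaf.stalk x} (ht : IsGen F x t) :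
    ∃ θ : (RefHull.dual F).presheaf.stalk x, IsGen (RefHull.dual F) x θ ∧
      evalStalk F (Coh.structureModule X) x θ t = unitGerm x := by
  have hfp := isFP_of_isCoh hF
  let α : StalkHom F (Coh.structureModule X) x :=
    (genEquiv (isGen_unitGerm x)).toLinearMap.comp (genEquiv ht).symm.toLinearMap
  have hα : α t = unitGerm x := by
    have h1 : (genEquiv ht).symm t = 1 := by
      rw [LinearEquiv.symm_apply_eq, genEquiv_apply, one_smul]
    change genEquiv (isGen_unitGerm x) ((genEquiv ht).symm t) = _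
    rw [h1, genEquiv_apply, one_smul]
  let E := evalStalkEquiv F (Coh.structureModule X) hfp x
  have hE : ∀ θ, E θ = evalStalk F (Coh.structureModule X) x θ := fun _ => rfl
  refine ⟨E.symm α, ⟨?_, ?_⟩, ?_⟩
  · intro a b hab
    have h1 := congrArg (fun θ => E θ t) hab
    simp only [map_smul, LinearEquiv.apply_symm_apply, LinearMap.smul_apply, hα] at h1
    exact (isGen_unitGerm x).1 h1
  · intro θ
    obtain ⟨c, hc⟩ := (isGen_unitGerm x).2 (E θ t)
    refine ⟨c, E.injective ?_⟩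
    simp only [map_smul, LinearEquiv.apply_symm_apply]
    apply LinearMap.ext
    intro m
    obtain ⟨a, rfl⟩ := ht.2 m
    simp only at hc
    simp only [map_smul, LinearMap.smul_apply, hα, hc]
  · rw [← hE, LinearEquiv.apply_symm_apply, hα]

/-- The dual has opposite divisor. -/
theorem Rep.dual (hX : Pi1.IsNormalScheme X) {D : X → ℤ} (hF : Rep F D) :
    Rep (dual F) (fun x => - D x) := by
  obtain ⟨hF, v, hv, hvD⟩ := hF
  have hF' := R1.of_isRef1 hF
  have hfp := isFP_of_isCoh hF.1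
  have hT : IsRef1 (RefHull.dual F) := K476.Ref1.isRef1_dual hF.1 hF.2.2
  have hT' := R1.of_isRef1 hT
  have hgv := hF'.isGen_of_ne_zero hv
  obtain ⟨u, hu, huv⟩ := exists_dual_gen hF.1 hgv
  refine ⟨hT, u, K475.Rank1.IsGen.ne_zero hu, fun x hx => ?_⟩
  obtain ⟨t, ht⟩ := hF'.exists_isGen hX hx
  obtain ⟨θ, hθ, hθt⟩ := exists_dual_gen hF.1 ht
  obtain ⟨a, rfl⟩ := (hF'.isGen_spec ht).2 v
  obtain ⟨b, rfl⟩ := (hT'.isGen_spec hθ).2 u
  have ha : a ≠ 0 := by
    rintro rfl
    exact hv (zero_smul _ _)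
  have hb : b ≠ 0 := by
    rintro rfl
    exact K475.Rank1.IsGen.ne_zero hu (zero_smul _ _)
  have h1 := hvD x hx
  simp only at h1 huv ⊢
  rw [hF'.sord_smul_gen hx ht _ ha] at h1
  rw [map_smul, map_smul, LinearMap.smul_apply, evalStalk_spec, hθt,
    stalkSpecializes_unitGerm, smul_smul, mul_comm] at huv
  have h2 : b * a = 1 := (isGen_unitGerm (η X)).1 (huv.trans (one_smul _ _).symm)
  rw [hT'.sord_smul_gen hx hθ _ hb]
  have h3 : Scheme.ord (X := X) (b * a : X.functionField) x = 0 := by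
    have h4 : (b * a : X.functionField) = 1 := h2
    rw [h4]
    exact Groth.Agent.Ega4dB.CDivUFD.ord_one x
  have h5 : Scheme.ord (X := X) (b * a : X.functionField) x =
      Scheme.ord (X := X) b x + Scheme.ord (X := X) a x := Scheme.ord_mul (X := X) hb ha
  omega

/-! ### Isomorphism classes -/

omit [IsIntegral X] [IsLocallyNoetherian X] in
theorem cl_eq_iff {L L' : X.Modules} : PicF.cl L = PicF.cl L' ↔ Nonempty (L ≅ L') := by
  constructor
  · intro h
    have h' := Quot.eqvGen_exact h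
    clear h
    induction h' with
    | rel _ _ h => exact h
    | refl _ => exact ⟨Iso.refl _⟩
    | symm _ _ _ ih => exact ⟨ih.some.symm⟩
    | trans _ _ _ _ _ ih ih' => exact ⟨ih.some ≪≫ ih'.some⟩
  · intro h
    exact Quot.sound h

/-- Divisors are transported by isomorphisms. -/
theorem Rep.of_iso (hX : Pi1.IsNormalScheme X) {D : X → ℤ} (hF : Rep F D) (hG : IsRef1 G)
    (e : F ≅ G) : Rep G D := by
  obtain ⟨hF, v, hv, hvD⟩ := hF
  have hb := fun x => bijective_stalkMapₗ_of_isIso e.hom x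
  refine ⟨hG, stalkMapₗ e.hom (η X) v, fun h => hv ((hb _).1 (h.trans (map_zero _).symm)),
    fun x hx => ?_⟩
  rw [(R1.of_isRef1 hF).sord_map (R1.of_isRef1 hG) hX hx e.hom (hb x) hv, hvD x hx]

end K475.Rep

end
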