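import Groth.Agent.Ega2.AmpleTransfer
import Groth.Agent.Divis.AmpleFin
import Groth.Agent.Smoothlim.LineSec

/-!
# Sections of large twists not vanishing at finitely many points

`exists_nv`: `A` ample on the open `U`, `L` invertible, `E ⊆ U` finite: for all large `N` there is a section of
`L ⊗ A^N` over `U` generating at all points of `E`.
-/

set_option autoImplicit false
universe u

open CategoryTheory CategoryTheory.Limits AlgebraicGeometry TopologicalSpace Opposite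

namespace K475.NvAvoid

open Groth.Agent.Fdesc.LocGen Groth.Agent.Ega2.Nv Groth.Agent.Ega2.Ample Groth.Agent

variable {X : Scheme.{u}}

theorem exists_affine_nv {A : X.Modules} {U : X.Opens} (hA : AmpleOn A U) (E : Set X) (hE : E.Finite)
    (hEU : E ⊆ U) : ∃ (n : ℕ) (s : Γ(CohB1.tensorPow A (n + 1), U)), E ⊆ nv _ s ∧ IsAffineOpen (nv _ s) := by
  have hA' : CohB1.IsAmple (A.restrict U.ι) := (isAmple_restrict_ι_iff U).mpr hA
  obtain ⟨m, t, ht1, -, ht2⟩ := Divis.AmpleFin.exists_genLocus_of_finite hA' (U.ι ⁻¹' E)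
    (hE.preimage U.ι.isEmbedding.injective.injOn) ⊤ (fun _ _ => trivial)
  obtain ⟨s, hs⟩ := (restrictMap U.ι A).exists_of_isOpenImmersion (U := U) (by simp) hA.locGen
    (sec t (U.ι ⁻¹ᵁ U))
  have htop : U.ι ⁻¹ᵁ U = ⊤ := by simp
  have h1 : nv _ (sec t (U.ι ⁻¹ᵁ U)) = CohB1.genLocus _ t := by
    rw [genLocus_eq_nv, ← res_sec t (le_top : U.ι ⁻¹ᵁ U ≤ ⊤), nv_res, htop, top_inf_eq]
  rw [h1] at hs
  have hle : nv _ s ≤ U := nv_le _ _
  refine ⟨m, s, ?_, ?_⟩
  · intro x hx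
    have h2 : (⟨x, hEU hx⟩ : U) ∈ U.ι ⁻¹ᵁ (nv _ s) := by
      rw [hs]
      exact ht1 hx
    exact h2
  · rw [← hs] at ht2
    have h3 := ht2.image_of_isOpenImmersion U.ι
    rwa [Scheme.Hom.image_preimage_eq_opensRange_inf, Scheme.Opens.opensRange_ι, inf_eq_right.mpr hle] at h3

theorem exists_nv_aux {A L : X.Modules} (hAi : PicF.IsInvertible A) (hL : PicF.IsInvertible L) {U : X.Opens}
    (hA : AmpleOn A U) (E : Set X) (hE : E.Finite) (hEU : E ⊆ U) :
    ∃ n : ℕ, ∀ r : ℕ, ∃ K₀ : ℕ, ∀ K, K₀ ≤ K →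
      ∃ S : Γ(CohB1.tensorMod L (CohB1.tensorPow A (r + (n + 1) * K)), U), E ⊆ nv _ S := by
  obtain ⟨n, s, hEs, haff⟩ := exists_affine_nv hA E hE hEU
  obtain ⟨ι, _, W, hWa, hWU, hWG, hcov⟩ := exists_finite_affine_cover hA.isCompact
    (fun V => (∃ e : Γ(A, V), IsGen e) ∧ ∃ l : Γ(L, V), IsGen l)
    (fun V V' hV h => ⟨⟨_, h.1.choose_spec.res hV⟩, ⟨_, h.2.choose_spec.res hV⟩⟩)
    (fun x _ => by
      obtain ⟨V, l, hxV, hl⟩ := (isInvertible_iff A).mp hAi x
      obtain ⟨V', e, hxV', he⟩ := (isInvertible_iff L).mp hL x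
      exact ⟨V ⊓ V', ⟨hxV, hxV'⟩, ⟨_, hl.res inf_le_left⟩, ⟨_, he.res inf_le_right⟩⟩)
  have hWG' : ∀ i, (∃ e : Γ(A, W i), IsGen e) ∧ ∃ l : Γ(L, W i), IsGen l := hWG
  choose e he using fun i => (hWG' i).1
  choose l hl using fun i => (hWG' i).2
  choose g hg using fun i j : ι => ((he j).res (inf_le_right : W i ⊓ W j ≤ _)).exists_eq
    (res A (inf_le_left : W i ⊓ W j ≤ _) (e i))
  choose k hk using fun i j : ι => ((hl j).res (inf_le_right : W i ⊓ W j ≤ _)).exists_eq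
    (res L (inf_le_left : W i ⊓ W j ≤ _) (l i))
  choose τ hτ using fun i => ((he i).pow (n + 1)).exists_eq (res _ (hWU i) s)
  have hD : ∀ i, W i ⊓ nv _ s = X.basicOpen (τ i) := fun i =>
    nv_inf_of_eq_smul s (hWU i) ((he i).pow (n + 1)) _ (hτ i)
  have hle : ∀ i, X.basicOpen (τ i) ≤ nv _ s := fun i => by rw [← hD i]; exact inf_le_right
  have hpg : ∀ (m : ℕ) (i j : ι), res _ (inf_le_left : W i ⊓ W j ≤ W i) (pow (e i) m) =
      g i j ^ m • res _ (inf_le_right : W i ⊓ W j ≤ W j) (pow (e j) m) := by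
    intro m i j
    rw [res_pow, res_pow, hg, smul_pow]
  have htg : ∀ (m : ℕ) (i j : ι), res _ (inf_le_left : W i ⊓ W j ≤ W i) (tmul (l i) (pow (e i) m)) =
      (k i j * g i j ^ m) • res _ (inf_le_right : W i ⊓ W j ≤ W j) (tmul (l j) (pow (e j) m)) := by
    intro m i j
    rw [res_tmul, res_tmul, hpg, hk, Fdesc.LocGen.smul_tmul, Fdesc.LocGen.tmul_smul, smul_smul]
  refine ⟨n, fun r => ?_⟩
  obtain ⟨μ, hμ⟩ := Smoothlim.LineSec.exists_genAt_finite
    (isInvertible_tensorMod hL (isInvertible_tensorPow hAi r)) haff E hE (fun x hx => hEs hx)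
  choose σ hσ using fun i => (((hl i).tmul ((he i).pow r)).res (X.basicOpen_le (τ i))).exists_eq
    (res _ (hle i) μ)
  obtain ⟨K₀, hK₀⟩ := exists_section hA.isQuasiSeparated W hWa hWU hcov τ σ
    (fun i j => k i j * g i j ^ r) (fun i j => g i j ^ (n + 1))
    (fun i j => coef_rel s (hWU i) (hWU j) ((he j).pow (n + 1)) _ _ (hτ i) (hτ j) _ (hpg _ i j))
    (fun i j => by
      refine coef_rel μ (hle i) (hle j) (((hl j).tmul ((he j).pow r)).res _) _ _ (hσ i) (hσ j) _ ?_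
      have := congrArg (res _ (inf_le_inf (X.basicOpen_le (τ i)) (X.basicOpen_le (τ j)))) (htg r i j)
      rw [res_smul, res_res, res_res] at this
      rw [res_res, res_res]
      exact this)
  refine ⟨K₀, fun K hK => ?_⟩
  obtain ⟨S, hS⟩ := hK₀ K hK (CohB1.tensorMod L (CohB1.tensorPow A (r + (n + 1) * K)))
    (fun i => tmul (l i) (pow (e i) (r + (n + 1) * K))) (fun i => (hl i).tmul ((he i).pow _))
    (fun i j => by rw [htg, pow_add, pow_mul, mul_assoc])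
  refine ⟨S, ?_⟩
  rw [hS]
  intro x hx
  obtain ⟨i, hi⟩ := Opens.mem_iSup.mp (hcov (hEU hx))
  refine Opens.mem_iSup.mpr ⟨i, ?_⟩
  have hx' : x ∈ X.basicOpen (τ i) := by
    rw [← hD i]
    exact ⟨hi, hEs hx⟩
  exact (Smoothlim.LineSec.genAt_iff (hle i) (((hl i).tmul ((he i).pow r)).res (X.basicOpen_le (τ i)))
    (hσ i) hx').mp (hμ x hx)

/-- sections of `L ⊗ A^N`, all `N` large, generating at finitely many given points. -/
theorem exists_nv {A L : X.Modules} (hAi : PicF.IsInvertible A) (hL : PicF.IsInvertible L) {U : X.Opens}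
    (hA : AmpleOn A U) (E : Set X) (hE : E.Finite) (hEU : E ⊆ U) :
    ∃ N₀ : ℕ, ∀ N, N₀ ≤ N → ∃ S : Γ(CohB1.tensorMod L (CohB1.tensorPow A N), U), E ⊆ nv _ S := by
  obtain ⟨n, h⟩ := exists_nv_aux hAi hL hA E hE hEU
  choose K₀ hK₀ using h
  refine ⟨(n + 1) * (Finset.range (n + 1)).sup K₀, fun N hN => ?_⟩
  have h1 : N % (n + 1) ∈ Finset.range (n + 1) := Finset.mem_range.mpr (Nat.mod_lt _ (Nat.succ_pos n))
  have h2 : K₀ (N % (n + 1)) ≤ N / (n + 1) := by
    refine (Finset.le_sup (f := K₀) h1).trans ?_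
    rw [Nat.le_div_iff_mul_le (Nat.succ_pos n), mul_comm]
    exact hN
  have h3 := hK₀ (N % (n + 1)) (N / (n + 1)) h2
  rwa [Nat.mod_add_div] at h3

end K475.NvAvoid
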