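import Groth.Agent.SDiv.K475.Sys
import Groth.Agent.SDiv.K475.SecPull
import Groth.Agent.Ega2.AmpleTransfer

/-!
# Local equations of sections of invertible modules and of their pullbacks

* `eqs f m`: the local equations on `Z` of the pullback along `f : Z ⟶ Y` of a section `m` of `M` over an open.
* `LocEq τ V a`: `a` is a local equation over `V` of the global section `τ`.
* `secOn m h`: the section of `M.restrict D.ι` given by `m`.
-/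

set_option autoImplicit false
universe u

open CategoryTheory CategoryTheory.Limits AlgebraicGeometry TopologicalSpace Opposite

namespace K475.SecSys

open Groth.Agent.Fdesc.LocGen Groth.Agent.Ega2.Nv Groth.Agent.Ega2.Ample K475.Sys

variable {Y Z : Scheme.{u}}

/-- local equations of the pullback of `m` along `f` -/
def eqs (f : Z ⟶ Y) {M : Y.Modules} {X₀ : Y.Opens} (m : Γ(M, X₀)) : Eqs Z := fun V a =>
  ∃ (W : Y.Opens) (hW : W ≤ X₀) (ε : Γ(M, W)) (c : Γ(Y, W)) (e : V ≤ f ⁻¹ᵁ W), IsGen ε ∧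
    res M hW m = c • ε ∧ a = f.appLE W V e c

theorem isSys_eqs (f : Z ⟶ Y) {M : Y.Modules} {X₀ : Y.Opens} (m : Γ(M, X₀)) : IsSys (eqs f m) := by
  rintro V V' h a ⟨W, hW, ε, c, e, h1, h2, rfl⟩
  refine ⟨W, hW, ε, c, h.trans e, h1, h2, ?_⟩
  rw [← Scheme.Hom.appLE_map f e (homOfLE h).op]
  rfl

theorem exists_eqs (f : Z ⟶ Y) {M : Y.Modules} (hM : PicF.IsInvertible M) {X₀ : Y.Opens} (m : Γ(M, X₀))
    {z : Z} (hz : f z ∈ X₀) : ∃ V : Z.Opens, z ∈ V ∧ ∃ a, eqs f m V a := by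
  obtain ⟨V, e, hxV, he⟩ := (isInvertible_iff M).mp hM (f z)
  obtain ⟨c, hc⟩ := (he.res (inf_le_left : V ⊓ X₀ ≤ V)).exists_eq (res M inf_le_right m)
  exact ⟨f ⁻¹ᵁ (V ⊓ X₀), ⟨hxV, hz⟩, _, V ⊓ X₀, inf_le_right, _, c, le_rfl, he.res _, hc, rfl⟩

theorem mem_basicOpen_of_eqs (f : Z ⟶ Y) {M : Y.Modules} {X₀ : Y.Opens} (m : Γ(M, X₀)) {V : Z.Opens}
    {a : Γ(Z, V)} (h : eqs f m V a) {y : Z} (hy : y ∈ V) (hfy : f y ∈ nv M m) : y ∈ Z.basicOpen a := by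
  obtain ⟨W, hW, ε, c, e, h1, h2, rfl⟩ := h
  have h3 : W ⊓ nv M m = Y.basicOpen c := nv_inf_of_eq_smul m hW h1 c h2
  have h4 : f y ∈ Y.basicOpen c := by
    rw [← h3]
    exact ⟨e hy, hfy⟩
  have h5 : y ∈ Z.basicOpen (f.app W c) := by
    rw [← Scheme.preimage_basicOpen]
    exact h4
  have h6 : f.appLE W V e c = ores e (f.app W c) := rfl
  rw [h6]
  have h7 : Z.basicOpen (ores e (f.app W c)) = V ⊓ Z.basicOpen (f.app W c) := Z.basicOpen_res _ _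
  rw [h7]
  exact ⟨hy, h5⟩

/-- local equations of a global section -/
def LocEq {M : Z.Modules} (τ : Coh.structureModule Z ⟶ M) (V : Z.Opens) (a : Γ(Z, V)) : Prop :=
  ∃ e : Γ(M, V), IsGen e ∧ sec τ V = a • e

theorem LocEq.res {M : Z.Modules} {τ : Coh.structureModule Z ⟶ M} {V V' : Z.Opens} (h : V' ≤ V)
    {a : Γ(Z, V)} (ha : LocEq τ V a) : LocEq τ V' (ores h a) := by
  obtain ⟨e, he, hτ⟩ := ha
  refine ⟨_, he.res h, ?_⟩
  rw [← res_sec τ h, hτ, res_smul]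

theorem LocEq.pull (f : Z ⟶ Y) {M : Y.Modules} {σ : Coh.structureModule Y ⟶ M} {W : Y.Opens} {c : Γ(Y, W)}
    (h : LocEq σ W c) {V : Z.Opens} (e : V ≤ f ⁻¹ᵁ W) :
    LocEq ((PicLoc.pullbackStructureIso f).inv ≫ (Scheme.Modules.pullback f).map σ) V (f.appLE W V e c) := by
  obtain ⟨ε, h1, h2⟩ := h
  have h3 : LocEq ((PicLoc.pullbackStructureIso f).inv ≫ (Scheme.Modules.pullback f).map σ) (f ⁻¹ᵁ W)
      (f.app W c) := ⟨_, h1.pullSec f, by rw [SecPull.sec_pull, h2, pullSec_smul]⟩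
  exact h3.res e

/-- the section of `M.restrict D.ι` given by a section `m` over a larger open -/
noncomputable def secOn {M : Y.Modules} {X₀ : Y.Opens} (m : Γ(M, X₀)) {D : Y.Opens} (h : D ≤ X₀) :
    Coh.structureModule (D : Scheme.{u}) ⟶ M.restrict D.ι :=
  homOf (toRestrict D.ι (res M (show D.ι ''ᵁ ⊤ ≤ X₀ from by simpa using h) m))

theorem locEq_secOn {M : Y.Modules} {X₀ : Y.Opens} (m : Γ(M, X₀)) {D : Y.Opens} (h : D ≤ X₀) {W : Y.Opens}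
    (hW : W ≤ X₀) {ε : Γ(M, W)} (hε : IsGen ε) {c : Γ(Y, W)} (hc : res M hW m = c • ε) :
    LocEq (secOn m h) (D.ι ⁻¹ᵁ W) (D.ι.app W c) := by
  refine ⟨toRestrict D.ι (res M (D.ι.image_preimage_le W) ε), ?_, ?_⟩
  · rw [isGen_toRestrict_iff]
    exact hε.res _
  · rw [secOn, sec_homOf, res_toRestrict, res_res]
    have h1 : res M ((D.ι.image_preimage_le W).trans hW) m =
        ores (D.ι.image_preimage_le W) c • res M (D.ι.image_preimage_le W) ε := by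
      rw [← res_smul, ← hc, res_res]
    rw [h1, toRestrict_smul]
    congr 1
    exact appIso_hom_res D.ι W c

theorem appLE_square {Z' Y' : Scheme.{u}} (j : Z' ⟶ Z) (f : Z ⟶ Y) (f' : Z' ⟶ Y') (k : Y' ⟶ Y)
    (h : f' ≫ k = j ≫ f) (W : Y.Opens) (V : Z.Opens) (e : V ≤ f ⁻¹ᵁ W) (c : Γ(Y, W))
    (e' : j ⁻¹ᵁ V ≤ f' ⁻¹ᵁ (k ⁻¹ᵁ W)) :
    f'.appLE (k ⁻¹ᵁ W) (j ⁻¹ᵁ V) e' (k.app W c) = j.app V (f.appLE W V e c) := by
  have h1 : k.app W ≫ f'.appLE (k ⁻¹ᵁ W) (j ⁻¹ᵁ V) e' = f.appLE W V e ≫ j.app V := by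
    rw [← Scheme.Hom.appLE_eq_app, ← Scheme.Hom.appLE_eq_app, Scheme.Hom.appLE_comp_appLE,
      Scheme.Hom.appLE_comp_appLE]
    congr 1
  exact congr($h1 c)

/-- local equations of the pullback of `secOn` along a square over an open immersion -/
theorem locEq_pull_secOn {M : Y.Modules} {X₀ : Y.Opens} (m : Γ(M, X₀)) {D : Y.Opens} (h : D ≤ X₀)
    {Z' : Scheme.{u}} (j : Z' ⟶ Z) (f : Z ⟶ Y) (f' : Z' ⟶ D) (hf : f' ≫ D.ι = j ≫ f) (V : Z.Opens) (a : Γ(Z, V))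
    (ha : eqs f m V a) : LocEq ((PicLoc.pullbackStructureIso f').inv ≫
      (Scheme.Modules.pullback f').map (secOn m h)) (j ⁻¹ᵁ V) (j.app V a) := by
  obtain ⟨W, hW, ε, c, e, h1, h2, rfl⟩ := ha
  have e' : j ⁻¹ᵁ V ≤ f' ⁻¹ᵁ (D.ι ⁻¹ᵁ W) := by
    rw [← Scheme.Hom.comp_preimage, hf, Scheme.Hom.comp_preimage]
    exact Scheme.Hom.preimage_mono _ e
  have h3 := (locEq_secOn m h hW h1 h2).pull f' e'
  rwa [appLE_square j f f' D.ι hf W V e c e'] at h3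

theorem locEq_secOn_of_eqs {M : Y.Modules} {X₀ : Y.Opens} (m : Γ(M, X₀)) {D : Y.Opens} (h : D ≤ X₀)
    (V : Y.Opens) (a : Γ(Y, V)) (ha : eqs (𝟙 Y) m V a) : LocEq (secOn m h) (D.ι ⁻¹ᵁ V) (D.ι.app V a) := by
  obtain ⟨W, hW, ε, c, e, h1, h2, rfl⟩ := ha
  have e' : D.ι ⁻¹ᵁ V ≤ (𝟙 (D : Scheme.{u})) ⁻¹ᵁ (D.ι ⁻¹ᵁ W) := Scheme.Hom.preimage_mono _ e
  have h3 := (locEq_secOn m h hW h1 h2).res e'
  have h4 := appLE_square D.ι (𝟙 Y) (𝟙 (D : Scheme.{u})) D.ι (by simp) W V e c e'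
  rw [← h4]
  convert h3 using 1
  simp only [Scheme.Hom.appLE, Scheme.Hom.id_app]
  rfl

end K475.SecSys
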