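import Groth.Agent.SDiv.K475.AssPt
import Mathlib.AlgebraicGeometry.Morphisms.Flat

/-!
# Associated points of fibres under base change

`map_mem_fibAss`: in a cartesian square the associated points of the fibre over `t'` lie over associated points of
the fibre over the image of `t'`.
-/

set_option autoImplicit false
universe u

open CategoryTheory CategoryTheory.Limits AlgebraicGeometry TopologicalSpace IsLocalRing

namespace K475.AssBC

open AssPt

theorem flat_field {k : Type u} {A : Type u} [Field k] [CommRing A] (f : k →+* A) : f.Flat := by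
  algebraize [f]
  change Module.Flat _ _
  infer_instance

theorem flat_residueFieldMap {X Y : Scheme.{u}} (f : X ⟶ Y) (x : X) :
    Flat (Spec.map (f.residueFieldMap x)) := by
  rw [Flat.SpecMap_iff]
  exact flat_field _

theorem map_mem_fibAss {Z' Z T' T : Scheme.{u}} {b : Z' ⟶ Z} {q' : Z' ⟶ T'} {q : Z ⟶ T} {k : T' ⟶ T}
    (h : IsPullback b q' q k) {t' : T'} {y : Z'} (hy : y ∈ fibAss q' t') : b y ∈ fibAss q (k t') := by
  obtain ⟨y, hy, rfl⟩ := hy
  obtain ⟨β, h1, h3⟩ : ∃ β : q'.fiber t' ⟶ q.fiber (k t'),
      IsPullback β (q'.fiberToSpecResidueField t') (q.fiberToSpecResidueField (k t'))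
        (Spec.map (k.residueFieldMap t')) ∧ β ≫ q.fiberι (k t') = q'.fiberι t' ≫ b :=
    ⟨_, isPullback_fiberToSpecResidueField_of_isPullback h t', pullback.lift_fst _ _ _⟩
  have h2 : Flat β := MorphismProperty.of_isPullback h1.flip (flat_residueFieldMap k t')
  refine ⟨β y, isAss_of_flat β y (Flat.stalkMap β y) hy, ?_⟩
  rw [← Scheme.Hom.comp_apply, h3, Scheme.Hom.comp_apply]

end K475.AssBC
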