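import Groth.Agent.SDiv.K475.Cyclo
import Mathlib.AlgebraicGeometry.Morphisms.Etale
import Mathlib.AlgebraicGeometry.ResidueField

/-!
# An étale neighbourhood with a root of `Φ_n`

`exists_etale_point`: `n` invertible at `s ∈ V` affine: an étale `e : S₁ ⟶ S` into `V` through `s` and a function `ξ` on
`S₁` with `Φ_n(ξ) = 0`.
-/

set_option autoImplicit false
universe u

open CategoryTheory CategoryTheory.Limits AlgebraicGeometry TopologicalSpace Opposite Polynomial

namespace K475.EtPt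

theorem exists_etale_point {S : Scheme.{u}} (s : S) (V : S.Opens) (hV : IsAffineOpen V) (hs : s ∈ V) (n : ℕ)
    (hn : (n : S.residueField s) ≠ 0) :
    ∃ (S₁ : Scheme.{u}) (e₁ : S₁ ⟶ S) (_ : Etale e₁) (s₁ : S₁) (_ : e₁ s₁ = s) (ξ : Γ(S₁, ⊤)),
      (∀ x, e₁ x ∈ V) ∧ (cyclotomic n Γ(S₁, ⊤)).eval ξ = 0 := by
  let R : Type u := Γ(S, V)
  let B : Type u := (Cyclo.pair R n).Ring
  let ρ : CommRingCat.of R ⟶ CommRingCat.of B := CommRingCat.ofHom (algebraMap R B)
  have hρ : Etale (Spec.map ρ) := by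
    refine HasRingHomProperty.Spec_iff.mpr ?_
    change (algebraMap R B).Etale
    rw [RingHom.etale_algebraMap]
    infer_instance
  let φ : R →+* S.residueField s := (S.evaluation V s hs).hom
  obtain ⟨Ω, _, ψ, χ, hχ⟩ := Cyclo.exists_lift φ hn
  let e₁ : Spec (CommRingCat.of B) ⟶ S := Spec.map ρ ≫ hV.fromSpec
  have he₁ : Etale e₁ := inferInstance
  let x₀ : Spec (CommRingCat.of Ω) := IsLocalRing.closedPoint Ω
  let s₁ : Spec (CommRingCat.of B) := Spec.map (CommRingCat.ofHom χ) x₀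
  let ψ' : S.residueField s ⟶ CommRingCat.of Ω := CommRingCat.ofHom ψ
  have h1 : Spec.map (CommRingCat.ofHom χ) ≫ e₁ = Spec.map ψ' ≫ S.fromSpecResidueField s := by
    have e1 : ρ ≫ CommRingCat.ofHom χ = (S.presheaf.germ V s hs ≫ S.residue s) ≫ ψ' := by
      ext r
      exact congr($hχ r)
    have e2 : Spec.map (S.presheaf.germ V s hs) ≫ hV.fromSpec = S.fromSpecStalk s :=
      hV.fromSpecStalk_eq_fromSpecStalk hs
    have e3 : S.fromSpecResidueField s = Spec.map (S.presheaf.germ V s hs ≫ S.residue s) ≫ hV.fromSpec := by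
      rw [Spec.map_comp, Category.assoc, e2]
      rfl
    change Spec.map (CommRingCat.ofHom χ) ≫ Spec.map ρ ≫ hV.fromSpec = _
    rw [← Category.assoc, ← Spec.map_comp, e1, e3, Spec.map_comp, Category.assoc]
  have h2 : e₁ s₁ = s := by
    change e₁ (Spec.map (CommRingCat.ofHom χ) x₀) = s
    rw [← Scheme.Hom.comp_apply, h1, Scheme.Hom.comp_apply, Scheme.fromSpecResidueField_apply]
  refine ⟨Spec (CommRingCat.of B), e₁, he₁, s₁, h2,
    (Scheme.ΓSpecIso (CommRingCat.of B)).inv.hom (StandardEtalePair.X (Cyclo.pair R n)), fun x => ?_, ?_⟩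
  · have h3 : hV.fromSpec (Spec.map ρ x) ∈ Set.range hV.fromSpec := ⟨_, rfl⟩
    rw [hV.range_fromSpec] at h3
    exact h3
  · have h4 := congrArg (Scheme.ΓSpecIso (CommRingCat.of B)).inv.hom (Cyclo.aeval_X R n)
    rw [map_zero, ← Polynomial.eval₂_at_apply, ← eval_map, map_cyclotomic] at h4
    exact h4

end K475.EtPt
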