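import Groth.Agent.SDiv.K475.PolySys

/-!
# The sections `Σ ξ^j b^*(a_j)` define relative effective Cartier divisors

* `secPoly b ξ a h`: the section of `b^* A`; `locEq_secPoly`.
* `core`: transfer from good points of `q₁` to an open subscheme and its base.
-/

set_option autoImplicit false
universe u

open CategoryTheory CategoryTheory.Limits AlgebraicGeometry TopologicalSpace Opposite

namespace K475.PolySec

open Groth.Agent.Fdesc.LocGen Groth.Agent.Ega2.Nv Groth.Agent.Ega2.Ample K475.Sys K475.SecSys K475.PolySys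

variable {Y Z : Scheme.{u}} {A : Y.Modules} {X₀ : Y.Opens} {r : ℕ}

/-- the section `Σ ξ^j b^*(a_j)` of `b^* A` -/
noncomputable def secPoly (b : Z ⟶ Y) (ξ : Γ(Z, ⊤)) (a : Fin r → Γ(A, X₀)) (h : ⊤ ≤ b ⁻¹ᵁ X₀) :
    Coh.structureModule Z ⟶ (Scheme.Modules.pullback b).obj A :=
  homOf (∑ j : Fin r, ξ ^ (j : ℕ) • res _ h (pullSec b (a j)))

theorem locEq_secPoly (b : Z ⟶ Y) (ξ : Γ(Z, ⊤)) (a : Fin r → Γ(A, X₀)) (h : ⊤ ≤ b ⁻¹ᵁ X₀) (V : Z.Opens)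
    (x : Γ(Z, V)) (hx : eqs b ξ a V x) : LocEq (secPoly b ξ a h) V x := by
  obtain ⟨W, hW, ε, α, e, h1, h2, rfl⟩ := hx
  refine ⟨res _ e (pullSec b ε), (h1.pullSec b).res e, ?_⟩
  rw [secPoly, sec_homOf, map_sum, Finset.sum_smul]
  refine Finset.sum_congr rfl fun j _ => ?_
  rw [res_smul, map_pow, res_res, mul_smul]
  congr 1
  have h3 : res ((Scheme.Modules.pullback b).obj A) (e.trans (b.preimage_mono hW)) (pullSec b (a j)) =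
      res _ e (pullSec b (res A hW (a j))) := by
    rw [← res_pullSec, res_res]
  refine Eq.trans h3 ?_
  rw [h2, pullSec_smul, res_smul]
  rfl

theorem locEq_pull_secPoly {Z' : Scheme.{u}} (f : Z' ⟶ Z) (b : Z ⟶ Y) (ξ : Γ(Z, ⊤)) (a : Fin r → Γ(A, X₀))
    (h : ⊤ ≤ b ⁻¹ᵁ X₀) (V : Z'.Opens) (x : Γ(Z', V)) (hx : eqs (f ≫ b) (f.app ⊤ ξ) a V x) :
    LocEq ((PicLoc.pullbackStructureIso f).inv ≫ (Scheme.Modules.pullback f).map (secPoly b ξ a h)) V x := by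
  obtain ⟨W, hW, ε, α, e, h1, h2, rfl⟩ := hx
  have h3 := locEq_secPoly b ξ a h (b ⁻¹ᵁ W) _ ⟨W, hW, ε, α, le_rfl, h1, h2, rfl⟩
  have e' : V ≤ f ⁻¹ᵁ (b ⁻¹ᵁ W) := e
  have h4 := h3.pull f (V := V) e'
  convert h4 using 1
  change _ = (f.appLE (b ⁻¹ᵁ W) V e').hom _
  rw [map_sum]
  refine Finset.sum_congr rfl fun i _ => ?_
  rw [map_mul, map_pow]
  have e1 : (f.appLE (b ⁻¹ᵁ W) V e').hom (ores (le_top : b ⁻¹ᵁ W ≤ ⊤) ξ) =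
      ores (le_top : V ≤ ⊤) (f.app ⊤ ξ) := by
    change ores e' (f.app (b ⁻¹ᵁ W) (ores (le_top : b ⁻¹ᵁ W ≤ ⊤) ξ)) = _
    rw [app_ores, ores_ores]
    rfl
  have e2 : (f.appLE (b ⁻¹ᵁ W) V e').hom ((b.appLE W (b ⁻¹ᵁ W) le_rfl).hom (α i)) =
      ((f ≫ b).appLE W V e).hom (α i) := by
    have h6 : b.appLE W (b ⁻¹ᵁ W) le_rfl ≫ f.appLE (b ⁻¹ᵁ W) V e' = (f ≫ b).appLE W V e := by
      rw [Scheme.Hom.appLE_comp_appLE]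
    exact congr(($h6).hom (α i))
  rw [e1, e2]

theorem core {Z₂ Z₁ T₂ T₁ : Scheme.{u}} (j : Z₂ ⟶ Z₁) [IsOpenImmersion j] (k : T₂ ⟶ T₁) [IsOpenImmersion k]
    (q₁ : Z₁ ⟶ T₁) (q₂ : Z₂ ⟶ T₂) (w : q₂ ≫ k = j ≫ q₁) (b₁ : Z₁ ⟶ Y) (ξ₁ : Γ(Z₁, ⊤)) (a : Fin r → Γ(A, X₀))
    (hgood : ∀ z : Z₂, GoodAt q₁ (eqs b₁ ξ₁ a) (j z)) {M : Z₂.Modules} (hM : PicF.IsInvertible M)
    (τ : Coh.structureModule Z₂ ⟶ M) (b₂ : Z₂ ⟶ Y) (hb : b₂ = j ≫ b₁) (ξ₂ : Γ(Z₂, ⊤)) (hξ : ξ₂ = j.app ⊤ ξ₁)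
    (hτ : ∀ V x, eqs b₂ ξ₂ a V x → LocEq τ V x) :
    FGA.IsEffCartier (PicF2.zeroScheme M τ) ∧ Flat ((PicF2.zeroScheme M τ).subschemeι ≫ q₂) := by
  subst hb hξ
  obtain ⟨h1, h2⟩ := of_goodAt hM τ (j ≫ q₁) (eqs (j ≫ b₁) (j.app ⊤ ξ₁) a) hτ
    (fun z => (hgood z).of_isOpenImmersion j (isSys_eqs b₁ ξ₁ a) (fun V x _ hx => eqs_pull j b₁ ξ₁ a V x hx) z)
  refine ⟨h1, ?_⟩
  rw [← w, ← Category.assoc] at h2
  exact (MorphismProperty.IsStableUnderBaseChange.hasOfPostcompProperty_monomorphisms (P := @Flat)).of_postcomp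
    _ k (inferInstanceAs (Mono k)) h2

end K475.PolySec
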