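import Groth.Prelude.Def_Rees
import Groth.Prelude.Def_ega3
import Groth.Agent.Flat2C.BlowProper
import Groth.Agent.Ega2.H267.ProjBC

/-!
# `Proj` of the Rees algebra (prelude grading) is a blow-up
-/

set_option autoImplicit false
universe u

open CategoryTheory CategoryTheory.Limits AlgebraicGeometry HomogeneousLocalization Polynomial

namespace K475.ReesIso

open Groth.Agent.Flat2C.ReesGrading Groth.Agent.Flat2C.ReesProj Groth.Agent.Flat2C.BlowAffine
open Groth.Agent.Flat2C.BlowAffine2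

noncomputable section

variable {A' A : Type u} [CommRing A'] [CommRing A]

/-- The map of Rees algebras induced by a ring map sending one ideal into another. -/
def reesMap (ε : A' →+* A) {I' : Ideal A'} {I : Ideal A} (h : I'.map ε ≤ I) :
    reesAlgebra I' →+* reesAlgebra I :=
  ((Polynomial.mapRingHom ε).comp (reesAlgebra I').val.toRingHom).codRestrict
    (reesAlgebra I).toSubring (by
      rintro ⟨f, hf⟩
      change Polynomial.map ε f ∈ reesAlgebra I
      intro i
      rw [Polynomial.coeff_map]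
      have h1 : ε (f.coeff i) ∈ (I' ^ i).map ε := Ideal.mem_map_of_mem ε (hf i)
      rw [Ideal.map_pow] at h1
      exact Ideal.pow_right_mono h i h1)

lemma coe_reesMap (ε : A' →+* A) {I' : Ideal A'} {I : Ideal A} (h : I'.map ε ≤ I)
    (f : reesAlgebra I') : (reesMap ε h f : A[X]) = Polynomial.map ε (f : A'[X]) := rfl

lemma reesMap_bijective (ε : A' ≃+* A) {I' : Ideal A'} {I : Ideal A}
    (h : I'.map (ε : A' →+* A) = I) : Function.Bijective (reesMap (ε : A' →+* A) h.le) := by
  have h' : I.map (ε.symm : A →+* A') ≤ I' := by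
    rw [← h, Ideal.map_map]
    simp
  constructor
  · intro f g hfg
    apply Subtype.ext
    have h1 := congrArg (fun z : reesAlgebra I => (z : A[X])) hfg
    simp only [coe_reesMap] at h1
    exact Polynomial.map_injective _ ε.injective h1
  · intro g
    refine ⟨reesMap _ h' g, ?_⟩
    apply Subtype.ext
    rw [coe_reesMap, coe_reesMap, Polynomial.map_map]
    simp

/-- The graded version. -/
def reesGr (ε : A' →+* A) {I' : Ideal A'} {I : Ideal A} (h : I'.map ε ≤ I) :
    grading I' →+*ᵍ Rees.deg (reesAlgebra I) :=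
  { reesMap ε h with
    map_mem := by
      intro i f hf m hm
      rw [coe_reesMap, Polynomial.coeff_map, hf m hm, map_zero] }

lemma reesGr_apply (ε : A' →+* A) {I' : Ideal A'} {I : Ideal A} (h : I'.map ε ≤ I)
    (f : reesAlgebra I') : reesGr ε h f = reesMap ε h f := rfl

lemma irrelevant_le (ε : A' ≃+* A) {I' : Ideal A'} {I : Ideal A}
    (h : I'.map (ε : A' →+* A) = I) :
    HomogeneousIdeal.irrelevant (Rees.deg (reesAlgebra I)) ≤
      (HomogeneousIdeal.irrelevant (grading I')).map (reesGr (ε : A' →+* A) h.le) := by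
  rw [← toIdeal_le_toIdeal_iff, HomogeneousIdeal.toIdeal_irrelevant_le]
  rintro i hi f hf
  obtain ⟨g, rfl⟩ := (reesMap_bijective ε h).2 f
  have hg : g ∈ grading I' i := by
    intro m hm
    have h1 : (reesMap (ε : A' →+* A) h.le g : A[X]).coeff m = 0 := hf m hm
    rw [coe_reesMap, Polynomial.coeff_map] at h1
    exact (map_eq_zero_iff _ ε.injective).mp h1
  refine Ideal.mem_map_of_mem _ ?_
  exact HomogeneousIdeal.mem_irrelevant_of_mem _ hi hg

/-- `Proj` of the Rees algebra (prelude grading) is a blow-up. -/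
theorem isBlowUp_proj (A : Type u) [CommRing A] (I : Ideal A) :
    BlowUp.IsBlowUp (Proj (Rees.deg (reesAlgebra I)) ↘ Spec (CommRingCat.of A))
      (Scheme.IdealSheafData.ofIdealTop (I.map (Scheme.ΓSpecIso (CommRingCat.of A)).inv.hom)) := by
  let X : Scheme.{u} := Spec (CommRingCat.of A)
  let 𝓘 : X.IdealSheafData :=
    Scheme.IdealSheafData.ofIdealTop (I.map (Scheme.ΓSpecIso (CommRingCat.of A)).inv.hom)
  let U : X.affineOpens := ⟨⊤, isAffineOpen_top X⟩
  have hU : 𝓘.ideal U = I.map (Scheme.ΓSpecIso (CommRingCat.of A)).inv.hom := by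
    simp [𝓘, U]
  let ε : Γ(X, ⊤) ≃+* A := (Scheme.ΓSpecIso (CommRingCat.of A)).commRingCatIsoToRingEquiv
  have hε : (𝓘.ideal U).map (ε : Γ(X, ⊤) →+* A) = I := by
    rw [hU, Ideal.map_map]
    have : (ε : Γ(X, ⊤) →+* A).comp (Scheme.ΓSpecIso (CommRingCat.of A)).inv.hom = RingHom.id A := by
      change (Scheme.ΓSpecIso (CommRingCat.of A)).hom.hom.comp
        (Scheme.ΓSpecIso (CommRingCat.of A)).inv.hom = RingHom.id A
      rw [← CommRingCat.hom_comp, Iso.inv_hom_id]
      rfl
    rw [this, Ideal.map_id]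
  have hbl : BlowUp.IsBlowUp (toX 𝓘 U) 𝓘 :=
    ⟨isEff_toX 𝓘 U, fun Y g hI => existsUnique_lift_affine 𝓘 U g (fun _ => trivial) hI⟩
  let φ := reesGr (ε : Γ(X, ⊤) →+* A) hε.le
  let _ : Algebra Γ(X, ⊤) A := (ε : Γ(X, ⊤) →+* A).toAlgebra
  let _ : Algebra (reesAlgebra (𝓘.ideal U)) (reesAlgebra I) := (reesMap (ε : Γ(X, ⊤) →+* A) hε.le).toAlgebra
  let _ : Algebra Γ(X, ⊤) (reesAlgebra I) :=
    ((algebraMap A (reesAlgebra I)).comp (ε : Γ(X, ⊤) →+* A)).toAlgebra
  have : IsScalarTower Γ(X, ⊤) A (reesAlgebra I) := IsScalarTower.of_algebraMap_eq fun _ => rfl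
  have : IsScalarTower Γ(X, ⊤) (reesAlgebra (𝓘.ideal U)) (reesAlgebra I) :=
    IsScalarTower.of_algebraMap_eq fun x => by
      apply Subtype.ext
      change algebraMap A A[X] (ε x) = Polynomial.map _ (algebraMap Γ(X, ⊤) Γ(X, ⊤)[X] x)
      simp
  have i1 : IsIso (CommRingCat.ofHom (algebraMap Γ(X, ⊤) A)) :=
    (ConcreteCategory.isIso_iff_bijective _).mpr ε.bijective
  have i2 : IsIso (CommRingCat.ofHom (algebraMap (reesAlgebra (𝓘.ideal U)) (reesAlgebra I))) :=
    (ConcreteCategory.isIso_iff_bijective _).mpr (reesMap_bijective ε hε)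
  have hpo : Algebra.IsPushout Γ(X, ⊤) A (reesAlgebra (𝓘.ideal U)) (reesAlgebra I) := by
    rw [← CommRingCat.isPushout_iff_isPushout]
    refine IsPushout.of_horiz_isIso ⟨?_⟩
    ext x : 2
    change algebraMap A (reesAlgebra I) (algebraMap Γ(X, ⊤) A x) =
      algebraMap (reesAlgebra (𝓘.ideal U)) (reesAlgebra I) (algebraMap Γ(X, ⊤) (reesAlgebra (𝓘.ideal U)) x)
    rw [← IsScalarTower.algebraMap_apply, ← IsScalarTower.algebraMap_apply]
  have hpb := Groth.Agent.Ega2.H267.ProjBC.isPullback_proj_map (R' := Γ(X, ⊤)) (R := A)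
    (B := reesAlgebra (𝓘.ideal U)) (A := reesAlgebra I) φ (fun _ => rfl) (irrelevant_le ε hε)
  have i3 : IsIso (Spec.map (CommRingCat.ofHom (algebraMap Γ(X, ⊤) A))) := inferInstance
  have i4 : IsIso (Proj.map φ (irrelevant_le ε hε)) := hpb.isIso_fst_of_isIso
  refine Groth.Agent.Flat2C.BlowProper.isBlowUp_of_iso hbl (asIso (Proj.map φ (irrelevant_le ε hε))) ?_
  have hw := hpb.w
  have htop : U.2.fromSpec = inv (Spec.map (CommRingCat.ofHom (algebraMap Γ(X, ⊤) A))) := by
    rw [IsAffineOpen.fromSpec_top, Scheme.isoSpec_Spec_inv]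
    have h1 : CommRingCat.ofHom (algebraMap Γ(X, ⊤) A) = (Scheme.ΓSpecIso (CommRingCat.of A)).hom := rfl
    rw [← cancel_mono (Spec.map (CommRingCat.ofHom (algebraMap Γ(X, ⊤) A))), IsIso.inv_hom_id, h1,
      ← Spec.map_comp, Iso.hom_inv_id, Spec.map_id]
    rfl
  change Proj.map φ _ ≫ (Proj.toSpecZero _ ≫ Spec.map (toZero _)) ≫ U.2.fromSpec = _
  rw [htop]
  change _ = (Proj.toSpecZero _ ≫ Spec.map (CommRingCat.ofHom (algebraMap A _)))
  rw [← Category.assoc, IsIso.comp_inv_eq, ← hw]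
  rfl

end

end K475.ReesIso
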