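import Groth.Agent.SDiv.K475.Ref1Ord

/-!
# Isomorphisms of reflexive modules are detected in codimension one
-/

set_option autoImplicit false
universe u
open CategoryTheory CategoryTheory.Limits AlgebraicGeometry TopologicalSpace Opposite

namespace K475.Ref1Iso

open RefHull Groth.Agent.CycB Groth.Agent.CycB.ModStalk K475.GenStalk K475.Rank1 K475.Codim1Ring
  K475.OrdEta K475.Ref1Ord

variable {X : Scheme.{u}} [IsIntegral X] [IsLocallyNoetherian X] {F G : X.Modules}

/-- A map of generic stalks preserving the stalks in codimension one preserves all stalks. -/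
theorem mapsTo_of_codim_one (hX : Pi1.IsNormalScheme X) (hG : Coh.IsCoh G)
    (hGr : IsReflexive G)
    (T : F.presheaf.stalk (η X) →ₗ[X.presheaf.stalk (η X)] G.presheaf.stalk (η X))
    (hT : ∀ x : X, Order.coheight x = 1 → ∀ m : F.presheaf.stalk x,
      T (F.presheaf.stalkSpecializes (spec x) m) ∈
        Set.range (G.presheaf.stalkSpecializes (spec x))) (x : X) (m : F.presheaf.stalk x) :
    T (F.presheaf.stalkSpecializes (spec x) m) ∈
      Set.range (G.presheaf.stalkSpecializes (spec x)) := by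
  refine K475.Codim1.mem_range_of_codim_one hX hG x
    ((K476.HomSh4.isReflexive_iff_isReflexiveAt hG).mp hGr x) _ ?_
  intro y hy hy1
  have h1 := hT y (coheight_of_dim hy1) (F.presheaf.stalkSpecializes hy m)
  rwa [spec_spec] at h1

/-- The morphism attached to a map of generic stalks preserving stalks in codimension one. -/
theorem exists_hom (hX : Pi1.IsNormalScheme X) (hG : Coh.IsCoh G) (hGr : IsReflexive G)
    (T : F.presheaf.stalk (η X) →ₗ[X.presheaf.stalk (η X)] G.presheaf.stalk (η X))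
    (hT : ∀ x : X, Order.coheight x = 1 → ∀ m : F.presheaf.stalk x,
      T (F.presheaf.stalkSpecializes (spec x) m) ∈
        Set.range (G.presheaf.stalkSpecializes (spec x))) :
    ∃ φ : F ⟶ G, stalkMapₗ φ (η X) = T :=
  ⟨homOf (K475.Ddual.inj_of_isReflexive hG hGr) T (mapsTo_of_codim_one hX hG hGr T hT),
    stalkMapₗ_homOf _ _ _⟩

/-- Two coherent reflexive modules with generic stalks identified compatibly with the stalks in
codimension one are isomorphic. -/
theorem exists_iso (hX : Pi1.IsNormalScheme X) (hF : Coh.IsCoh F) (hFr : IsReflexive F)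
    (hG : Coh.IsCoh G) (hGr : IsReflexive G)
    (T : F.presheaf.stalk (η X) ≃ₗ[X.presheaf.stalk (η X)] G.presheaf.stalk (η X))
    (hT : ∀ x : X, Order.coheight x = 1 → ∀ v : F.presheaf.stalk (η X),
      v ∈ Set.range (F.presheaf.stalkSpecializes (spec x)) ↔
        T v ∈ Set.range (G.presheaf.stalkSpecializes (spec x))) :
    ∃ e : F ≅ G, stalkMapₗ e.hom (η X) = T := by
  obtain ⟨φ, hφ⟩ := exists_hom hX hG hGr T.toLinearMap
    fun x hx m => (hT x hx _).mp ⟨m, rfl⟩
  obtain ⟨ψ, hψ⟩ := exists_hom hX hF hFr T.symm.toLinearMap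
    fun x hx m => (hT x hx _).mpr (by
      change T (T.symm _) ∈ _
      rw [T.apply_symm_apply]
      exact ⟨m, rfl⟩)
  refine ⟨⟨φ, ψ, ?_, ?_⟩, hφ⟩
  · apply hom_ext (K475.Ddual.inj_of_isReflexive hF hFr)
    rw [K476.HomSh1.stalkMapₗ_comp, hφ, hψ, K476.HomSh1.stalkMapₗ_id]
    ext v
    exact T.symm_apply_apply v
  · apply hom_ext (K475.Ddual.inj_of_isReflexive hG hGr)
    rw [K476.HomSh1.stalkMapₗ_comp, hφ, hψ, K476.HomSh1.stalkMapₗ_id]
    ext v
    exact T.apply_symm_apply v

/-- Rank one reflexive modules with elements of the same orders are isomorphic. -/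
theorem exists_iso_of_sord_eq (hX : Pi1.IsNormalScheme X) (hF : IsRef1 F) (hG : IsRef1 G)
    {s : F.presheaf.stalk (η X)} (hs : s ≠ 0) {t : G.presheaf.stalk (η X)} (ht : t ≠ 0)
    (h : ∀ x : X, Order.coheight x = 1 → sord F x s = sord G x t) :
    ∃ e : F ≅ G, stalkMapₗ e.hom (η X) s = t := by
  have hF' := R1.of_isRef1 hF
  have hG' := R1.of_isRef1 hG
  have hsg := hF'.isGen_of_ne_zero hs
  have htg := hG'.isGen_of_ne_zero ht
  let T := (genEquiv hsg).symm.trans (genEquiv htg)
  have hT : ∀ a : X.presheaf.stalk (η X), T (a • s) = a • t := by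
    intro a
    have h1 : (genEquiv hsg).symm (a • s) = a := by
      rw [LinearEquiv.symm_apply_eq, genEquiv_apply]
    change genEquiv htg ((genEquiv hsg).symm (a • s)) = _
    rw [h1, genEquiv_apply]
  obtain ⟨e, he⟩ := exists_iso hX hF.1 hF.2.1 hG.1 hG.2.1 T (by
    intro x hx v
    obtain ⟨a, rfl⟩ := hsg.2 v
    simp only
    rw [hT]
    by_cases ha : a = 0
    · subst ha
      rw [zero_smul, zero_smul]
      exact ⟨fun _ => ⟨0, map_zero _⟩, fun _ => ⟨0, map_zero _⟩⟩
    · rw [hF'.mem_range_iff hX hx (hF'.smul_ne_zero hs ha),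
        hG'.mem_range_iff hX hx (hG'.smul_ne_zero ht ha), hF'.sord_smul hX hx hs ha,
        hG'.sord_smul hX hx ht ha, h x hx])
  refine ⟨e, ?_⟩
  rw [he]
  have := hT 1
  rwa [one_smul, one_smul] at this

end K475.Ref1Iso
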