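import Groth.Agent.CycB.LocQuot
import Groth.Agent.Ega4dB.FiberStalk
import Mathlib.RingTheory.Ideal.AssociatedPrime.Finiteness
import Mathlib.RingTheory.Ideal.AssociatedPrime.Localization
import Mathlib.RingTheory.Flat.TorsionFree

/-!
# Associated points of (fibres of) schemes

`IsAss x`: every nonzerodivisor of `O_{X,x}` is a unit (on a locally Noetherian scheme: `x` is associated).
* `finite_isAss`: a Noetherian scheme has finitely many such points.
* `mem_nonZeroDivisors_stalk`: on a locally Noetherian scheme, a germ at `x` which is a unit at all associated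
  generizations of `x` is a nonzerodivisor.
* `isAss_of_flat`: images of associated points under flat maps are associated.
* `mk_germ_mem_nonZeroDivisors`: a function invertible at the associated points of the fibre (specialising to `x`) is a
  nonzerodivisor in the local ring of the fibre at `x`.
-/

set_option autoImplicit false
universe u

open CategoryTheory CategoryTheory.Limits AlgebraicGeometry TopologicalSpace IsLocalRing

namespace K475.AssPt

open Groth.Agent.CycB.LocQuot Groth.Agent.Ega4dB.FiberStalk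

/-- every nonzerodivisor of the local ring at `x` is a unit. -/
def IsAss {X : Scheme.{u}} (x : X) : Prop := ∀ c ∈ nonZeroDivisors (X.presheaf.stalk x), IsUnit c

section Alg

theorem mem_associatedPrimes_of_atPrime {B : Type*} [CommRing B] [IsNoetherianRing B] (p : Ideal B) [p.IsPrime]
    (Bp : Type*) [CommRing Bp] [Algebra B Bp] [IsLocalization.AtPrime Bp p]
    (h : ∀ c ∈ nonZeroDivisors Bp, IsUnit c) : p ∈ associatedPrimes B B := by
  have : IsLocalRing Bp := IsLocalization.AtPrime.isLocalRing Bp p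
  have : IsNoetherianRing Bp := IsLocalization.isNoetherianRing p.primeCompl Bp inferInstance
  have : IsFractionRing Bp Bp := IsFractionRing.self_iff_nonZeroDivisors_le_isUnit.mpr fun c hc => h c hc
  have h1 : maximalIdeal Bp ∈ associatedPrimes Bp Bp :=
    Ideal.IsMaximal.mem_associatedPrimes_of_isFractionRing Bp (maximalIdeal Bp)
  have h2 := Module.associatedPrimes.comap_mem_associatedPrimes_of_mem_associatedPrimes_of_isLocalizedModule_of_fg
    p.primeCompl (Algebra.linearMap B Bp) (maximalIdeal Bp) h1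
    ((isNoetherianRing_iff_ideal_fg B).mp ‹_› _)
  have h3 : (maximalIdeal Bp).comap (algebraMap B Bp) = p := IsLocalization.AtPrime.under_maximalIdeal Bp p
  rwa [h3] at h2

theorem exists_prime_of_not_mem {O : Type*} [CommRing O] [IsNoetherianRing O] (c : O)
    (hc : c ∉ nonZeroDivisors O) : ∃ Q : Ideal O, ∃ _ : Q.IsPrime, c ∈ Q ∧
      ∀ (OQ : Type _) [CommRing OQ] [Algebra O OQ] [IsLocalization.AtPrime OQ Q],
        ∀ d ∈ nonZeroDivisors OQ, IsUnit d := by
  have h1 : c ∈ ((nonZeroDivisors O : Set O)ᶜ) := hc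
  rw [← biUnion_associatedPrimes_eq_compl_nonZeroDivisors] at h1
  simp only [Set.mem_iUnion] at h1
  obtain ⟨Q, hQ, hcQ⟩ := h1
  refine ⟨Q, hQ.isPrime, hcQ, ?_⟩
  intro OQ _ _ _ d hd
  have := hQ.isPrime
  have : IsLocalRing OQ := IsLocalization.AtPrime.isLocalRing OQ Q
  by_contra hu
  have h2 : (maximalIdeal OQ).comap (algebraMap O OQ) = Q := IsLocalization.AtPrime.under_maximalIdeal OQ Q
  have h3 : maximalIdeal OQ ∈ associatedPrimes OQ OQ :=
    Module.associatedPrimes.mem_associatedPrimes_of_comap_mem_associatedPrimes_of_isLocalizedModule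
      Q.primeCompl (Algebra.linearMap O OQ) (maximalIdeal OQ) (by rw [h2]; exact hQ)
  have : IsNoetherianRing OQ := IsLocalization.isNoetherianRing Q.primeCompl OQ inferInstance
  have h4 : d ∈ ((nonZeroDivisors OQ : Set OQ)ᶜ) := by
    rw [← biUnion_associatedPrimes_eq_compl_nonZeroDivisors]
    exact Set.mem_biUnion h3 ((mem_maximalIdeal d).mpr hu)
  exact h4 hd

end Alg

variable {X : Scheme.{u}}

theorem finite_isAss_affine (U : X.affineOpens) [IsNoetherianRing Γ(X, U.1)] :
    {x : X | x ∈ U.1 ∧ IsAss x}.Finite := by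
  have h1 := associatedPrimes.finite Γ(X, U.1) Γ(X, U.1)
  have h2 : {p : PrimeSpectrum Γ(X, U.1) | p.asIdeal ∈ associatedPrimes Γ(X, U.1) Γ(X, U.1)}.Finite :=
    h1.preimage (fun p _ q _ h => PrimeSpectrum.ext h)
  refine (h2.image (fun p => U.2.fromSpec p)).subset ?_
  rintro x ⟨hxU, hx⟩
  let := X.presheaf.algebra_section_stalk (⟨x, hxU⟩ : U.1)
  have := U.2.isLocalization_stalk ⟨x, hxU⟩
  refine ⟨U.2.primeIdealOf ⟨x, hxU⟩, ?_, U.2.fromSpec_primeIdealOf ⟨x, hxU⟩⟩
  exact mem_associatedPrimes_of_atPrime _ (X.presheaf.stalk x) hx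

theorem finite_isAss [CompactSpace X] [IsLocallyNoetherian X] : {x : X | IsAss x}.Finite := by
  have h1 : ∀ x : X, ∃ U : X.affineOpens, x ∈ U.1 := fun x => by
    obtain ⟨U, hU, hxU, -⟩ := exists_isAffineOpen_mem_and_subset (X := X) (x := x) (U := ⊤) trivial
    exact ⟨⟨U, hU⟩, hxU⟩
  choose U hU using h1
  obtain ⟨t, -, ht⟩ := isCompact_univ.elim_nhds_subcover (fun x => ((U x).1 : Set X))
    (fun x _ => (U x).1.2.mem_nhds (hU x))
  have hn : ∀ x, IsNoetherianRing Γ(X, (U x).1) := fun x => IsLocallyNoetherian.component_noetherian (U x)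
  refine (t.finite_toSet.biUnion (t := fun x => {y : X | y ∈ (U x).1 ∧ IsAss y})
    (fun x _ => finite_isAss_affine (U x))).subset ?_
  intro x hx
  obtain ⟨y, hy, hxy⟩ := Set.mem_iUnion₂.mp (ht (Set.mem_univ x))
  exact Set.mem_iUnion₂.mpr ⟨y, hy, hxy, hx⟩

/-- a germ which is a unit at all associated generizations is a nonzerodivisor -/
theorem mem_nonZeroDivisors_stalk [IsLocallyNoetherian X] {x : X} (c : X.presheaf.stalk x)
    (h : ∀ (y : X) (hy : y ⤳ x), IsAss y → IsUnit ((X.presheaf.stalkSpecializes hy).hom c)) :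
    c ∈ nonZeroDivisors (X.presheaf.stalk x) := by
  by_contra hc
  obtain ⟨Q, hQ, hcQ, hQ2⟩ := exists_prime_of_not_mem c hc
  have hy := ptOf_specializes (X := X) (x := x) ⟨Q, hQ⟩
  let := (X.presheaf.stalkSpecializes hy).hom.toAlgebra
  have h1 := isLocalization_stalkSpecializes hy
  have h2 : RingHom.ker (Cyc.specMap x (ptOf ⟨Q, hQ⟩) hy) = Q := by
    rw [← primeOf_asIdeal, primeOf_ptOf]
  simp only [h2] at h1
  have h3 : IsAss (ptOf (⟨Q, hQ⟩ : PrimeSpectrum (X.presheaf.stalk x))) := fun d hd =>
    hQ2 (X.presheaf.stalk (ptOf (⟨Q, hQ⟩ : PrimeSpectrum (X.presheaf.stalk x)))) d hd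
  have h4 := h _ hy h3
  rw [← h2, mem_ker_specMap_iff] at hcQ
  exact hcQ h4

/-- images of associated points under flat maps are associated -/
theorem isAss_of_flat {Y : Scheme.{u}} (f : Y ⟶ X) (y : Y) (hf : (f.stalkMap y).hom.Flat) (hy : IsAss y) :
    IsAss (f y) := by
  intro c hc
  have h1 : (f.stalkMap y).hom c ∈ nonZeroDivisors (Y.presheaf.stalk y) := by
    let : Algebra (X.presheaf.stalk (f y)) (Y.presheaf.stalk y) := (f.stalkMap y).hom.toAlgebra
    have : Module.Flat (X.presheaf.stalk (f y)) (Y.presheaf.stalk y) := hf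
    have h2 := Module.Flat.isSMulRegular_of_nonZeroDivisors (M := Y.presheaf.stalk y) hc
    rw [mem_nonZeroDivisors_iff_right]
    intro a ha
    apply h2
    change (f.stalkMap y).hom c * a = (f.stalkMap y).hom c * 0
    rw [mul_comm, ha, mul_zero]
  exact isUnit_of_map_unit (f.stalkMap y).hom c (hy _ h1)

/-- the points of `X` over `s` which are associated points of the fibre -/
def fibAss {S : Scheme.{u}} (f : X ⟶ S) (s : S) : Set X :=
  (f.fiberι s) '' {y | IsAss y}

theorem fibAss_over {S : Scheme.{u}} {f : X ⟶ S} {s : S} {x : X} (hx : x ∈ fibAss f s) : f x = s := by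
  obtain ⟨y, -, rfl⟩ := hx
  have h1 : f.fiberι s y ∈ f ⁻¹' {s} := by
    rw [← Scheme.Hom.range_fiberι]
    exact ⟨y, rfl⟩
  exact h1

set_option backward.isDefEq.respectTransparency.types false in
theorem isLocallyNoetherian_fiber {S : Scheme.{u}} (f : X ⟶ S) [LocallyOfFiniteType f] (s : S) :
    IsLocallyNoetherian (f.fiber s) := by
  have : LocallyOfFiniteType (f.fiberToSpecResidueField s) :=
    MorphismProperty.pullback_snd _ _ inferInstance
  exact LocallyOfFiniteType.isLocallyNoetherian (f.fiberToSpecResidueField s)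

theorem finite_fibAss {S : Scheme.{u}} (f : X ⟶ S) [LocallyOfFiniteType f] [QuasiCompact f] (s : S) :
    (fibAss f s).Finite := by
  have := isLocallyNoetherian_fiber f s
  exact finite_isAss.image _

theorem mk_germ_mem_nonZeroDivisors {S : Scheme.{u}} (f : X ⟶ S) [LocallyOfFiniteType f] {U : X.Opens} (x : X)
    (hxU : x ∈ U) (c : Γ(X, U)) (h : ∀ y ∈ fibAss f (f x), y ⤳ x → y ∈ X.basicOpen c) :
    Ideal.Quotient.mk (fibIdeal f x) (X.presheaf.germ U x hxU c) ∈
      nonZeroDivisors (X.presheaf.stalk x ⧸ fibIdeal f x) := by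
  have := isLocallyNoetherian_fiber f (f x)
  have key : (toFiberStalk f x).hom (X.presheaf.germ U x hxU c) ∈
      nonZeroDivisors ((f.fiber (f x)).presheaf.stalk (f.asFiber x)) := by
    refine mem_nonZeroDivisors_stalk _ fun y hy hya => ?_
    have hx' : f.fiberι (f x) (f.asFiber x) ∈ U := by rw [f.fiberι_asFiber]; exact hxU
    have hyx : f.fiberι (f x) y ⤳ x := by
      have := hy.map (f.fiberι (f x)).continuous
      rwa [f.fiberι_asFiber] at this
    have hyU : f.fiberι (f x) y ∈ U := hyx.mem_open U.2 hxU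
    have h1 : (toFiberStalk f x).hom (X.presheaf.germ U x hxU c) =
        (f.fiber (f x)).presheaf.germ (f.fiberι (f x) ⁻¹ᵁ U) (f.asFiber x)
          (show f.asFiber x ∈ f.fiberι (f x) ⁻¹ᵁ U from hx') ((f.fiberι (f x)).app U c) := by
      have e1 : X.presheaf.stalkSpecializes (specializes_of_eq (f.fiberι_asFiber x))
          (X.presheaf.germ U x hxU c) = X.presheaf.germ U _ hx' c :=
        X.presheaf.germ_stalkSpecializes_apply hxU _ c
      have e2 : (toFiberStalk f x).hom (X.presheaf.germ U x hxU c) =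
          (f.fiberι (f x)).stalkMap (f.asFiber x)
            (X.presheaf.stalkSpecializes (specializes_of_eq (f.fiberι_asFiber x))
              (X.presheaf.germ U x hxU c)) := rfl
      rw [e2, e1]
      exact Scheme.Hom.germ_stalkMap_apply _ _ _ _ _
    have h2 : ((f.fiber (f x)).presheaf.stalkSpecializes hy).hom
        ((toFiberStalk f x).hom (X.presheaf.germ U x hxU c)) =
        ((f.fiberι (f x)).stalkMap y).hom (X.presheaf.germ U _ hyU c) := by
      rw [h1]
      refine ((f.fiber (f x)).presheaf.germ_stalkSpecializes_apply _ hy _).trans ?_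
      exact (Scheme.Hom.germ_stalkMap_apply _ _ _ _ _).symm
    rw [h2]
    exact ((X.mem_basicOpen c _ hyU).mp (h _ ⟨y, hya, rfl⟩ hyx)).map _
  rw [mem_nonZeroDivisors_iff_right] at key ⊢
  intro a ha
  have h1 := congrArg (fiberStalkEquiv f x) ha
  rw [map_mul, map_zero, fiberStalkEquiv_mk] at h1
  exact (map_eq_zero_iff _ (fiberStalkEquiv f x).injective).1 (key _ h1)

end K475.AssPt
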