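import Mathlib.AlgebraicGeometry.Noetherian
import Mathlib.RingTheory.Ideal.KrullsHeightTheorem

/-!
# Every point of a locally Noetherian scheme specializes to a closed point
-/

set_option autoImplicit false
universe u
open CategoryTheory AlgebraicGeometry TopologicalSpace

namespace K475.ClosedPt

theorem not_height_le_one {B : Type*} [CommRing B] {p q : Ideal B}
    [p.IsPrime] [q.IsPrime] [(⊥ : Ideal B).IsPrime] (h1 : ⊥ < p) (h2 : p < q) : ¬ q.height ≤ 1 := by
  intro h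
  have e1 := Ideal.height_add_one_le_of_lt_of_isPrime h1
  have e2 := Ideal.height_add_one_le_of_lt_of_isPrime h2
  have e3 : (1 : ℕ∞) ≤ p.height := le_trans (by simp) e1
  have e4 : (1 + 1 : ℕ∞) ≤ 1 := (add_le_add_left e3 1).trans (e2.trans h)
  exact absurd e4 (by decide)

/-- In a Noetherian domain with a chain of primes of length two, no nonzero element lies in all the
nonzero primes. -/
theorem exists_prime_notMem {B : Type*} [CommRing B] [IsDomain B] [IsNoetherianRing B]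
    {p₃ p₄ : Ideal B} [p₃.IsPrime] [p₄.IsPrime] (h3 : ⊥ < p₃) (h34 : p₃ < p₄) (f : B) (hf : f ≠ 0) :
    ∃ q : Ideal B, q.IsPrime ∧ ⊥ < q ∧ f ∉ q := by
  by_contra hc
  push Not at hc
  have hb : (⊥ : Ideal B).IsPrime := Ideal.isPrime_bot
  let I : Ideal B := Ideal.span {f}
  have hI : I.IsPrincipal := ⟨f, rfl⟩
  have hfin : I.minimalPrimes.Finite := Ideal.finite_minimalPrimes_of_isNoetherianRing B I
  have hf3 : f ∈ p₃ := hc p₃ inferInstance h3
  have hI3 : I ≤ p₃ := (Ideal.span_singleton_le_iff_mem _).mpr hf3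
  have hav : ¬ ((p₄ : Set B) ⊆ ⋃ q ∈ I.minimalPrimes, (q : Set B)) := by
    intro h
    obtain ⟨q, hq, hle⟩ := (Ideal.subset_union_prime_finite hfin (f := id) ⊥ ⊥
      (fun q hq _ _ => (hq.1.1 : Ideal.IsPrime q))).mp h
    have : q.IsPrime := hq.1.1
    have hle : p₄ ≤ q := hle
    exact not_height_le_one h3 (lt_of_lt_of_le h34 hle)
      (Ideal.height_le_one_of_isPrincipal_of_mem_minimalPrimes I q hq)
  rw [Set.not_subset] at hav
  obtain ⟨g, hg4, hg⟩ := hav
  have hg4 : g ∈ p₄ := hg4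
  simp only [Set.mem_iUnion, SetLike.mem_coe, exists_prop, not_exists, not_and] at hg
  have hg0 : g ≠ 0 := by
    rintro rfl
    obtain ⟨q, hq, -⟩ := Ideal.exists_minimalPrimes_le hI3
    exact hg q hq (zero_mem _)
  obtain ⟨q', hq', -⟩ := Ideal.exists_minimalPrimes_le
    ((Ideal.span_singleton_le_iff_mem p₄).mpr hg4)
  have hp' : q'.IsPrime := hq'.1.1
  have hgq' : g ∈ q' := hq'.1.2 (Ideal.mem_span_singleton_self g)
  have hpr : (Ideal.span {g}).IsPrincipal := ⟨g, rfl⟩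
  have hq'1 := Ideal.height_le_one_of_isPrincipal_of_mem_minimalPrimes _ q' hq'
  have hfq' : f ∈ q' := hc q' hp' (bot_lt_iff_ne_bot.mpr fun h => hg0 (by
    rw [h] at hgq'
    exact (Ideal.mem_bot.mp hgq')))
  obtain ⟨q, hq, hqq'⟩ := Ideal.exists_minimalPrimes_le
    ((Ideal.span_singleton_le_iff_mem q').mpr hfq' : I ≤ q')
  have hqp : q.IsPrime := hq.1.1
  have hfq : f ∈ q := hq.1.2 (Ideal.mem_span_singleton_self f)
  have hq0 : ⊥ < q := bot_lt_iff_ne_bot.mpr fun h => hf (by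
    rw [h] at hfq
    exact (Ideal.mem_bot.mp hfq))
  rcases eq_or_lt_of_le hqq' with rfl | hlt
  · exact hg q hq hgq'
  · exact not_height_le_one hq0 hlt hq'1

/-- The spectrum version over a point. -/
theorem exists_lt_notMem {A : Type*} [CommRing A] [IsNoetherianRing A] {p₁ p₃ p₄ : PrimeSpectrum A}
    (h13 : p₁ < p₃) (h34 : p₃ < p₄) (f : A) (hf : f ∉ p₁.asIdeal) :
    ∃ q : PrimeSpectrum A, p₁ < q ∧ f ∉ q.asIdeal := by
  let B := A ⧸ p₁.asIdeal
  let π : A →+* B := Ideal.Quotient.mk p₁.asIdeal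
  have hπ : Function.Surjective π := Ideal.Quotient.mk_surjective
  have hk : RingHom.ker π = p₁.asIdeal := Ideal.mk_ker
  have h3 : (p₃.asIdeal.map π).IsPrime := Ideal.map_isPrime_of_surjective hπ (hk.trans_le h13.le)
  have h4 : (p₄.asIdeal.map π).IsPrime :=
    Ideal.map_isPrime_of_surjective hπ (hk.trans_le (h13.trans h34).le)
  have c3 : (p₃.asIdeal.map π).comap π = p₃.asIdeal := by
    rw [Ideal.comap_map_of_surjective' π hπ, hk, sup_eq_left]
    exact h13.le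
  have c4 : (p₄.asIdeal.map π).comap π = p₄.asIdeal := by
    rw [Ideal.comap_map_of_surjective' π hπ, hk, sup_eq_left]
    exact (h13.trans h34).le
  have l3 : ⊥ < p₃.asIdeal.map π := by
    rw [bot_lt_iff_ne_bot]
    intro h
    rw [h] at c3
    change RingHom.ker π = _ at c3
    rw [hk] at c3
    exact h13.ne (PrimeSpectrum.ext c3)
  have l34 : p₃.asIdeal.map π < p₄.asIdeal.map π := by
    refine lt_of_le_of_ne (Ideal.map_mono h34.le) fun h => ?_
    rw [h, c4] at c3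
    exact h34.ne (PrimeSpectrum.ext c3.symm)
  obtain ⟨q, hq, hq0, hfq⟩ := exists_prime_notMem l3 l34 (π f) (by
    intro h
    exact hf (Ideal.Quotient.eq_zero_iff_mem.mp h))
  refine ⟨⟨q.comap π, hq.comap π⟩, ?_, hfq⟩
  have hle : p₁.asIdeal ≤ q.comap π := hk.symm.trans_le (Ideal.comap_mono bot_le)
  refine lt_of_le_of_ne hle fun h => ?_
  have h' : p₁.asIdeal = q.comap π := congrArg PrimeSpectrum.asIdeal h
  apply hq0.ne
  exact (Ideal.comap_injective_of_surjective π hπ (hk.trans h'))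

variable {X : Scheme.{u}}

/-- In an affine open every point specializes to a point closed in it. -/
theorem exists_closed_in {U : X.Opens} (hU : IsAffineOpen U) {x : X} (hx : x ∈ U) :
    ∃ y ∈ U, x ⤳ y ∧ ∀ z ∈ U, y ⤳ z → z = y := by
  have hr : Set.range hU.fromSpec = (U : Set X) := hU.range_fromSpec
  have hemb : Topology.IsOpenEmbedding hU.fromSpec := hU.fromSpec.isOpenEmbedding
  obtain ⟨p, rfl⟩ : x ∈ Set.range hU.fromSpec := hr ▸ hx
  obtain ⟨m, hm, hpm⟩ := Ideal.exists_le_maximal p.asIdeal p.isPrime.ne_top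
  let q : Spec Γ(X, U) := ⟨m, hm.isPrime⟩
  refine ⟨hU.fromSpec q, hr.subset ⟨q, rfl⟩, ?_, ?_⟩
  · rw [hemb.isInducing.specializes_iff]
    exact (PrimeSpectrum.le_iff_specializes p q).mp hpm
  · intro z hz h
    obtain ⟨r, rfl⟩ : z ∈ Set.range hU.fromSpec := hr ▸ hz
    rw [hemb.isInducing.specializes_iff] at h
    have h2 : m ≤ r.asIdeal := (PrimeSpectrum.le_iff_specializes q r).mpr h
    have h3 := hm.eq_of_le r.isPrime.ne_top h2
    congr 1
    exact PrimeSpectrum.ext h3.symm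

/-- A chain of specializations of length two in a locally Noetherian scheme: the first point is not
open in its closure (locally). -/
theorem exists_mem_of_chain [IsLocallyNoetherian X] {x₁ x₃ x₄ : X} (h13 : x₁ ⤳ x₃) (h34 : x₃ ⤳ x₄)
    (n13 : x₁ ≠ x₃) (n34 : x₃ ≠ x₄) {U : X.Opens} (hU : x₁ ∈ U) :
    ∃ y ∈ U, x₁ ⤳ y ∧ y ≠ x₁ := by
  obtain ⟨V, hV, hx4, -⟩ := exists_isAffineOpen_mem_and_subset (x := x₄) (U := ⊤) trivial
  have hx3 : x₃ ∈ V := h34.mem_open V.2 hx4
  have hx1 : x₁ ∈ V := h13.mem_open V.2 hx3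
  have hr : Set.range hV.fromSpec = (V : Set X) := hV.range_fromSpec
  have hemb : Topology.IsOpenEmbedding hV.fromSpec := hV.fromSpec.isOpenEmbedding
  have hN : IsNoetherianRing Γ(X, V) := IsLocallyNoetherian.component_noetherian ⟨V, hV⟩
  obtain ⟨p₁, rfl⟩ : x₁ ∈ Set.range hV.fromSpec := hr ▸ hx1
  obtain ⟨p₃, rfl⟩ : x₃ ∈ Set.range hV.fromSpec := hr ▸ hx3
  obtain ⟨p₄, rfl⟩ : x₄ ∈ Set.range hV.fromSpec := hr ▸ hx4
  rw [hemb.isInducing.specializes_iff] at h13 h34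
  have l13 : @LT.lt (PrimeSpectrum Γ(X, V)) _ p₁ p₃ := lt_of_le_of_ne ((PrimeSpectrum.le_iff_specializes p₁ p₃).mpr h13)
    fun h => n13 (by rw [h])
  have l34 : @LT.lt (PrimeSpectrum Γ(X, V)) _ p₃ p₄ := lt_of_le_of_ne ((PrimeSpectrum.le_iff_specializes p₃ p₄).mpr h34)
    fun h => n34 (by rw [h])
  obtain ⟨_, ⟨f, rfl⟩, hf, hfU⟩ := PrimeSpectrum.isTopologicalBasis_basic_opens.exists_subset_of_mem_open
    (show p₁ ∈ (hV.fromSpec ⁻¹ᵁ U : Set (Spec Γ(X, V))) from hU) (hV.fromSpec ⁻¹ᵁ U).2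
  obtain ⟨q, hq, hfq⟩ := exists_lt_notMem l13 l34 f hf
  refine ⟨hV.fromSpec q, hfU hfq, ?_, ?_⟩
  · exact hemb.isInducing.specializes_iff.mpr ((PrimeSpectrum.le_iff_specializes p₁ q).mp hq.le)
  · intro h
    exact hq.ne (hemb.injective h).symm

/-- Every point of a locally Noetherian scheme specializes to a closed point. -/
theorem exists_isClosed_specializes [IsLocallyNoetherian X] (x : X) :
    ∃ y : X, IsClosed ({y} : Set X) ∧ x ⤳ y := by
  obtain ⟨U, hU, hxU, -⟩ := exists_isAffineOpen_mem_and_subset (x := x) (U := ⊤) trivial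
  obtain ⟨x₁, hx₁, h1, hc1⟩ := exists_closed_in hU hxU
  by_cases hcl : IsClosed ({x₁} : Set X)
  · exact ⟨x₁, hcl, h1⟩
  have aux : ∀ y : X, ¬ IsClosed ({y} : Set X) → ∃ z, y ⤳ z ∧ y ≠ z := by
    intro y hy
    by_contra hc
    push Not at hc
    apply hy
    rw [← closure_subset_iff_isClosed]
    intro z hz
    have : y ⤳ z := specializes_iff_mem_closure.mpr hz
    exact (hc z this).symm
  obtain ⟨x₂, h12, n12⟩ := aux x₁ hcl
  have hx₂ : x₂ ∉ U := fun h => n12 (hc1 x₂ h h12).symm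
  obtain ⟨U₂, hU₂, hxU₂, -⟩ := exists_isAffineOpen_mem_and_subset (x := x₂) (U := ⊤) trivial
  obtain ⟨x₃, hx₃, h23, hc3⟩ := exists_closed_in hU₂ hxU₂
  have hx₃U : x₃ ∉ U := fun h => hx₂ (h23.mem_open U.2 h)
  refine ⟨x₃, ?_, h1.trans (h12.trans h23)⟩
  by_contra hcl3
  obtain ⟨x₄, h34, n34⟩ := aux x₃ hcl3
  obtain ⟨y, hyU, hy, hne⟩ := exists_mem_of_chain (h12.trans h23) h34
    (fun h => hx₃U (h ▸ hx₁)) n34 hx₁
  exact hne (hc1 y hyU hy)

end K475.ClosedPt
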