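import Mathlib.RingTheory.Polynomial.Cyclotomic.Roots
import Mathlib.RingTheory.PrincipalIdealDomain
import Mathlib.RingTheory.UniqueFactorizationDomain.NormalizedFactors
import Mathlib.RingTheory.Etale.StandardEtale
import Mathlib.FieldTheory.IsAlgClosed.AlgebraicClosure

/-!
# Cyclotomic polynomials avoiding finitely many polynomials

* `exists_cyclotomic`: given a field `k` and finitely many nonzero polynomials over extensions of `k`, there is `n`,
  invertible in `k`, with `Φ_n` coprime to all of them.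
* `pair n`: the standard etale algebra `R[x]/(Φ_n)[1/Φ_n']`, with `exists_lift`.
-/

set_option autoImplicit false

open Polynomial

namespace K475.Cyclo

theorem isCoprime_cyclotomic {K : Type*} [Field K] {n m : ℕ} (hn : (n : K) ≠ 0) (hm : (m : K) ≠ 0) (h : n ≠ m) :
    IsCoprime (cyclotomic n K) (cyclotomic m K) := by
  have hn0 : n ≠ 0 := by rintro rfl; simp at hn
  have hm0 : m ≠ 0 := by rintro rfl; simp at hm
  have h1 : (X ^ (n * m) - 1 : K[X]).Separable := X_pow_sub_one_separable_iff.mpr (by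
    push_cast
    exact mul_ne_zero hn hm)
  have h2 : cyclotomic n K * cyclotomic m K ∣ X ^ (n * m) - 1 := by
    rw [← prod_cyclotomic_eq_X_pow_sub_one (Nat.mul_pos (Nat.pos_of_ne_zero hn0) (Nat.pos_of_ne_zero hm0))]
    have h3 : ({n, m} : Finset ℕ) ⊆ (n * m).divisors := by
      intro d hd
      rw [Finset.mem_insert, Finset.mem_singleton] at hd
      rw [Nat.mem_divisors]
      rcases hd with rfl | rfl
      · exact ⟨dvd_mul_right _ _, mul_ne_zero hn0 hm0⟩
      · exact ⟨dvd_mul_left _ _, mul_ne_zero hn0 hm0⟩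
    have h4 := Finset.prod_dvd_prod_of_subset _ _ (fun i => cyclotomic i K) h3
    rwa [Finset.prod_pair h] at h4
  exact (h1.of_dvd h2).isCoprime

theorem finite_bad {K : Type*} [Field K] (A : K[X]) (hA : A ≠ 0) :
    {n : ℕ | (n : K) ≠ 0 ∧ ¬ IsCoprime A (cyclotomic n K)}.Finite := by
  classical
  have h1 : ∀ n : ℕ, ¬ IsCoprime A (cyclotomic n K) →
      ∃ q ∈ UniqueFactorizationMonoid.normalizedFactors A, q ∣ cyclotomic n K := by
    intro n hn
    by_contra hcon
    push Not at hcon
    refine hn (isCoprime_of_irreducible_dvd (fun h => hA h.1) fun z hz hzA hzn => ?_)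
    obtain ⟨q, hq, hzq⟩ := UniqueFactorizationMonoid.exists_mem_normalizedFactors_of_dvd hA hz hzA
    exact hcon q hq (hzq.symm.dvd.trans hzn)
  choose! F hF1 hF2 using h1
  refine Set.Finite.of_finite_image (f := F) ?_ ?_
  · refine (UniqueFactorizationMonoid.normalizedFactors A).toFinset.finite_toSet.subset ?_
    rintro _ ⟨n, hn, rfl⟩
    exact Multiset.mem_toFinset.mpr (hF1 n hn.2)
  · intro n hn m hm hnm
    by_contra hne
    have h2 := isCoprime_cyclotomic hn.1 hm.1 hne
    have h3 : IsUnit (F n) := h2.isUnit_of_dvd' (hF2 n hn.2) (hnm ▸ hF2 m hm.2)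
    exact (UniqueFactorizationMonoid.irreducible_of_normalized_factor _ (hF1 n hn.2)).not_isUnit h3

theorem infinite_natCast_ne_zero (k : Type*) [Field k] : {n : ℕ | (n : k) ≠ 0}.Infinite := by
  obtain ⟨p, hp⟩ := CharP.exists k
  rcases CharP.char_is_prime_or_zero k p with h | rfl
  · have h1 : Function.Injective (fun m : ℕ => p * m + 1) := fun a b hab => by
      have := Nat.add_right_cancel hab
      exact Nat.eq_of_mul_eq_mul_left h.pos this
    refine (Set.infinite_range_of_injective h1).mono ?_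
    rintro _ ⟨m, rfl⟩
    simp
  · refine (Set.infinite_range_of_injective (f := fun m : ℕ => m + 1) (fun a b hab => by simpa using hab)).mono ?_
    rintro _ ⟨m, rfl⟩
    have := CharP.charP_to_charZero k
    exact Nat.cast_ne_zero (R := k).mpr (Nat.succ_ne_zero m)

theorem exists_cyclotomic (k : Type*) [Field k] {ι : Type*} [Finite ι] (K : ι → Type*) [∀ i, Field (K i)]
    (φ : ∀ i, k →+* K i) (A : ∀ i, (K i)[X]) (hA : ∀ i, A i ≠ 0) :
    ∃ n : ℕ, (n : k) ≠ 0 ∧ ∀ i, IsCoprime (A i) (cyclotomic n (K i)) := by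
  have h1 : (⋃ i, {n : ℕ | (n : K i) ≠ 0 ∧ ¬ IsCoprime (A i) (cyclotomic n (K i))}).Finite :=
    Set.finite_iUnion fun i => finite_bad (A i) (hA i)
  obtain ⟨n, hn, hn2⟩ := ((infinite_natCast_ne_zero k).sdiff h1).nonempty
  refine ⟨n, hn, fun i => ?_⟩
  by_contra hcon
  refine hn2 (Set.mem_iUnion.mpr ⟨i, ?_, hcon⟩)
  rw [← map_natCast (φ i)]
  exact (map_ne_zero (φ i)).mpr hn

universe u

/-- the standard etale pair of `Φ_n` -/
noncomputable def pair (R : Type u) [CommRing R] (n : ℕ) : StandardEtalePair R :=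
  ⟨cyclotomic n R, cyclotomic.monic n R, derivative (cyclotomic n R), ⟨1, 0, 1, by simp⟩⟩

theorem aeval_X (R : Type u) [CommRing R] (n : ℕ) :
    eval (StandardEtalePair.X (pair R n)) (cyclotomic n (pair R n).Ring) = 0 := by
  have h1 := (pair R n).hasMap_X.1
  change aeval _ (cyclotomic n R) = 0 at h1
  rwa [aeval_def, ← eval_map, map_cyclotomic] at h1

theorem exists_lift {R : Type u} [CommRing R] {k : Type u} [Field k] (φ : R →+* k) {n : ℕ}
    (hn : (n : k) ≠ 0) : ∃ (Ω : Type u) (_ : Field Ω) (ψ : k →+* Ω) (χ : (pair R n).Ring →+* Ω),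
      χ.comp (algebraMap R _) = ψ.comp φ := by
  let Ω := AlgebraicClosure k
  have hnΩ : (n : Ω) ≠ 0 := by
    rw [← map_natCast (algebraMap k Ω)]
    exact (map_ne_zero (algebraMap k Ω)).mpr hn
  have hn0 : n ≠ 0 := by rintro rfl; simp at hn
  have : NeZero (n : Ω) := ⟨hnΩ⟩
  have hdeg : (cyclotomic n Ω).degree ≠ 0 := by
    rw [degree_cyclotomic]
    have := Nat.totient_pos.mpr (Nat.pos_of_ne_zero hn0)
    exact_mod_cast this.ne'
  obtain ⟨ζ, hζ⟩ := IsAlgClosed.exists_root (cyclotomic n Ω) hdeg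
  let : Algebra R Ω := ((algebraMap k Ω).comp φ).toAlgebra
  have hP : (pair R n).HasMap ζ := by
    constructor
    · change aeval ζ (cyclotomic n R) = 0
      rw [aeval_def, ← eval_map, map_cyclotomic]
      exact hζ
    · change IsUnit (aeval ζ (derivative (cyclotomic n R)))
      rw [aeval_def, ← eval_map, ← derivative_map, map_cyclotomic, isUnit_iff_ne_zero]
      have h1 := separable_cyclotomic n Ω
      have h2 := h1.aeval_derivative_ne_zero (x := ζ) (by
        rw [aeval_def, eval₂_eq_eval_map, Algebra.algebraMap_self, Polynomial.map_id]; exact hζ)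
      rw [aeval_def, eval₂_eq_eval_map, Algebra.algebraMap_self, Polynomial.map_id] at h2
      exact h2
  refine ⟨Ω, inferInstance, algebraMap k Ω, ((pair R n).lift ζ hP).toRingHom, ?_⟩
  ext r
  exact ((pair R n).lift ζ hP).commutes r

end K475.Cyclo
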