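import Groth.Agent.SDiv.K475.DivSheaf

/-!
# The sheaf `O(D)` is coherent
-/

set_option autoImplicit false
universe u
open CategoryTheory CategoryTheory.Limits AlgebraicGeometry TopologicalSpace Opposite

noncomputable section

namespace K475.DivCoh

open Groth.Agent.CycB Groth.Agent.CycB.ModStalk K475.GenStalk K475.KSub K475.Ref1Ord K475.DivSheaf
open Groth.Agent.Ega4dB.CDivNormal Groth.Agent.Ega4dB.CDivUFD Groth.Agent.Ega4dB.CDivAffine

variable {X : Scheme.{u}} [IsIntegral X] [IsLocallyNoetherian X] (hX : Pi1.IsNormalScheme X)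

include hX in
theorem exists_rat_pos {U : X.Opens} (hU : IsAffineOpen U) (hη : η X ∈ U) {y : X} (hy : y ∈ U)
    (hy1 : Order.coheight y = 1) : ∃ r : Γ(X, U), r ≠ 0 ∧ 0 < Scheme.ord (rat hη r) y := by
  have hne : Nonempty U := ⟨⟨y, hy⟩⟩
  have hDVR := isDVR_of_coheight hX hy1
  have hh := height_primeIdealOf hU y hy hy1
  obtain ⟨r, hr, hr0⟩ := Submodule.exists_mem_ne_zero_of_ne_bot (Ideal.ne_bot_of_height_eq_one hh)
  exact ⟨r, hr0, ord_pos_of_mem hU y hy r hr hr0⟩

include hX in
theorem exists_denominator {U : X.Opens} (hU : IsAffineOpen U) (hη : η X ∈ U) (S : Finset X)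
    (hS : ∀ y ∈ S, y ∈ U ∧ Order.coheight y = 1) (c : X → ℕ) :
    ∃ g : Γ(X, U), g ≠ 0 ∧ ∀ y ∈ S, (c y : ℤ) ≤ Scheme.ord (rat hη g) y := by
  classical
  have hne : Nonempty U := ⟨⟨η X, hη⟩⟩
  induction S using Finset.induction_on with
  | empty => exact ⟨1, one_ne_zero, by simp⟩
  | insert y S hyS ih =>
    obtain ⟨g, hg0, hg⟩ := ih fun z hz => hS z (Finset.mem_insert_of_mem hz)
    obtain ⟨r, hr0, hr⟩ := exists_rat_pos hX hU hη (hS y (Finset.mem_insert_self y S)).1
      (hS y (Finset.mem_insert_self y S)).2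
    have hrn : r ^ c y ≠ 0 := pow_ne_zero _ hr0
    have hord : ∀ z, Scheme.ord (rat hη (g * r ^ c y)) z =
        Scheme.ord (rat hη g) z + c y * Scheme.ord (rat hη r) z := by
      intro z
      have h1 : rat hη (g * r ^ c y) = rat hη g * rat hη r ^ c y := by
        change X.presheaf.germ U (η X) hη (g * r ^ c y) = _
        rw [map_mul, map_pow]
      rw [h1, Scheme.ord_mul (rat_ne_zero hη hg0) (pow_ne_zero _ (rat_ne_zero hη hr0)),
        ord_pow z (rat_ne_zero hη hr0)]
    refine ⟨g * r ^ c y, mul_ne_zero hg0 hrn, fun z hz => ?_⟩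
    rw [hord]
    have hzU := (hS z hz).1
    have h2 := ord_rat_nonneg hη hr0 hzU
    have h3 := ord_rat_nonneg hη hg0 hzU
    rcases Finset.mem_insert.mp hz with rfl | hz
    · have h4 : (c z : ℤ) ≤ c z * Scheme.ord (rat hη r) z := by
        nlinarith [Int.natCast_nonneg (c z)]
      omega
    · have h4 := hg z hz
      have h5 : (0 : ℤ) ≤ c y * Scheme.ord (rat hη r) z := by positivity
      omega

include hX in
/-- A rational function regular in codimension one on `U` is a section over `U`. -/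
theorem exists_rat_eq {U : X.Opens} (hη : η X ∈ U) {b : X.functionField}
    (hb : ∀ y ∈ U, Order.coheight y = 1 → b ≠ 0 → 0 ≤ Scheme.ord b y) :
    ∃ t : Γ(X, U), rat hη t = b := by
  have hne : Nonempty U := ⟨⟨η X, hη⟩⟩
  by_cases hb0 : b = 0
  · subst hb0
    exact ⟨0, map_zero _⟩
  have key := Groth.Agent.Lipman.Loc.exists_section U b (by
    intro x hx
    have h1 := K475.Codim1Ring.mem_range_stalk_of_codim_one hX x b (by
      intro y hy hy1
      exact (mem_range_iff_ord hX (coheight_of_dim hy1) hb0).mpr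
        (hb y (hy.mem_open U.2 hx) (coheight_of_dim hy1) hb0))
    exact h1)
  exact key

/-- Sections of `O(D)` over an affine open have bounded denominators. -/
theorem exists_bound {D : X → ℤ} (hD : LocallyFiniteSupport D) {U : X.Opens} (hU : IsAffineOpen U)
    (hη : η X ∈ U) : ∃ g : Γ(X, U), g ≠ 0 ∧ ∀ s : Γ(O hX D, U), ∃ t : Γ(X, U),
      rat hη t = rat hη g * s.1 ⟨η X, hη⟩ := by
  have hfin := finite_bad hD hU.isCompact (a := 1) one_ne_zero
  obtain ⟨g, hg0, hg⟩ := exists_denominator hX hU hη hfin.toFinset (by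
    intro y hy
    rw [Set.Finite.mem_toFinset] at hy
    exact ⟨hy.1, hy.2.1⟩) (fun y => (D y).natAbs)
  refine ⟨g, hg0, fun s => exists_rat_eq hX hη fun y hy hy1 hne => ?_⟩
  have hs0 := right_ne_zero_of_mul hne
  rw [Scheme.ord_mul (rat_ne_zero hη hg0) hs0]
  have h1 : - D y ≤ Scheme.ord (s.1 ⟨η X, hη⟩) y := by
    have h2 := apply_mem s ⟨y, hy⟩
    rw [apply_eq s ⟨y, hy⟩ ⟨η X, hη⟩] at h2
    exact (mem_P_iff hX hs0).mp h2 hy1
  have h3 := ord_rat_nonneg hη hg0 hy
  by_cases hDy : D y = 0
  · omega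
  · have h4 := hg y (by rw [Set.Finite.mem_toFinset]; exact ⟨hy, hy1, Or.inl hDy⟩)
    omega

omit [IsLocallyNoetherian X] in
theorem rat_injective {U : X.Opens} (hη : η X ∈ U) : Function.Injective (rat hη) :=
  germ_injective_of_isIntegral X (η X) hη

theorem finite_sections {D : X → ℤ} (hD : LocallyFiniteSupport D) {U : X.Opens}
    (hU : IsAffineOpen U) : Module.Finite Γ(X, U) Γ(O hX D, U) := by
  by_cases hη : η X ∈ U
  · obtain ⟨g, hg0, hg⟩ := exists_bound hX hD hU hη
    choose f hf using hg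
    let F : Γ(O hX D, U) →ₗ[Γ(X, U)] Γ(X, U) :=
      { toFun := f
        map_add' := fun s t => by
          apply rat_injective hη
          have h1 : (s + t).1 ⟨η X, hη⟩ = s.1 ⟨η X, hη⟩ + t.1 ⟨η X, hη⟩ := rfl
          rw [hf, h1, mul_add, ← hf, ← hf]
          exact (map_add (X.presheaf.germ U (η X) hη).hom _ _).symm
        map_smul' := fun r s => by
          apply rat_injective hη
          have h1 : (r • s).1 ⟨η X, hη⟩ = rat hη r * s.1 ⟨η X, hη⟩ := smul_val hη r s _
          rw [hf, h1, mul_left_comm, ← hf]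
          exact (map_mul (X.presheaf.germ U (η X) hη).hom _ _).symm }
    have hF : Function.Injective F := by
      intro s t hst
      have h1 : rat hη g * s.1 ⟨η X, hη⟩ = rat hη g * t.1 ⟨η X, hη⟩ := by
        rw [← hf, ← hf]
        exact congrArg (rat hη) hst
      have h2 := mul_left_cancel₀ (rat_ne_zero hη hg0) h1
      exact ext fun y => (apply_eq s _ _).trans (h2.trans (apply_eq t _ _))
    have : IsNoetherianRing Γ(X, U) := IsLocallyNoetherian.component_noetherian ⟨U, hU⟩
    exact Module.Finite.of_injective F hF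
  · have : Subsingleton Γ(O hX D, U) := ⟨fun s t => ext fun y => absurd (mem_of_nonempty y.2) hη⟩
    infer_instance

/-- `O(D)` is coherent. -/
theorem isCoh {D : X → ℤ} (hD : LocallyFiniteSupport D) : Coh.IsCoh (O hX D) := by
  have hq := isQCoh hX hD
  refine K476.HomSh3.isCoh_of_isFP ((Groth.Agent.Desc.FPSections.isFP_iff_sections hq).mpr
    (fun V hV => ?_))
  have : IsNoetherianRing Γ(X, V) := IsLocallyNoetherian.component_noetherian ⟨V, hV⟩
  have := finite_sections hX hD hV
  exact Module.finitePresentation_of_finite _ _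

end K475.DivCoh

end
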