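import Groth.Agent.SDiv.K475.Ref1Ord
import Groth.Agent.S1692

/-!
# The divisor of a rational section of a rank one torsion free module is locally finite
-/

set_option autoImplicit false
universe u
open CategoryTheory CategoryTheory.Limits AlgebraicGeometry TopologicalSpace Opposite

namespace K475.Ref1Div

open RefHull Groth.Agent.CycB Groth.Agent.CycB.ModStalk K475.GenStalk K475.Rank1 K475.Codim1Ring
  K475.OrdEta K475.Ref1Ord

variable {X : Scheme.{u}} [IsIntegral X] [IsLocallyNoetherian X]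

/-- The points of codimension one outside a nonempty open form a locally finite family. -/
theorem locallyFinite_compl (V : X.Opens) [Nonempty V] :
    LocallyFinite (fun ξ : {ξ : ↥X // Order.coheight ξ = 1 ∧ ξ ∉ V} => closure ({ξ.1} : Set ↥X)) := by
  have hlf := Groth.Agent.S1693.result X ((V : Set X)ᶜ) V.2.isClosed_compl
  have hξV : ∀ ξ : {ξ : ↥X // Order.coheight ξ = 1 ∧ ξ ∉ V}, ξ.1 ∉ V := fun ξ => ξ.2.2
  let g : {ξ : ↥X // Order.coheight ξ = 1 ∧ ξ ∉ V} →
      ↥(irreducibleComponents ↥((V : Set X)ᶜ)) := fun ξ =>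
    ⟨_, Groth.Agent.S1692.closure_mem X V ξ.1 ξ.2.1 (hξV ξ)⟩
  have hg : Function.Injective g := by
    intro ξ ξ' h
    have h1 : ((↑) ⁻¹' (closure {ξ.1} : Set X) : Set ↥((V : Set X)ᶜ)) =
      (↑) ⁻¹' (closure {ξ'.1} : Set X) := congrArg Subtype.val h
    have h2 : ξ.1 ∈ closure {ξ'.1} := by
      have : (⟨ξ.1, hξV ξ⟩ : ↥((V : Set X)ᶜ)) ∈ ((↑) ⁻¹' (closure {ξ.1} : Set X) : Set ↥((V : Set X)ᶜ)) :=
        show ξ.1 ∈ closure {ξ.1} from subset_closure rfl
      rw [h1] at this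
      exact this
    have h3 : ξ'.1 ∈ closure {ξ.1} := by
      have : (⟨ξ'.1, hξV ξ'⟩ : ↥((V : Set X)ᶜ)) ∈ ((↑) ⁻¹' (closure {ξ'.1} : Set X) : Set ↥((V : Set X)ᶜ)) :=
        show ξ'.1 ∈ closure {ξ'.1} from subset_closure rfl
      rw [← h1] at this
      exact this
    exact Subtype.ext (((specializes_iff_mem_closure.mpr h3).antisymm
      (specializes_iff_mem_closure.mpr h2)).eq)
  have h := hlf.comp_injective hg
  convert h using 2 with ξ
  have hcl : closure {ξ.1} ⊆ ((V : Set X)ᶜ) :=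
    V.2.isClosed_compl.closure_subset_iff.mpr (by simpa using hξV ξ)
  change closure {ξ.1} = (↑) '' ((↑) ⁻¹' (closure {ξ.1} : Set X) : Set ↥((V : Set X)ᶜ))
  rw [Subtype.image_preimage_coe]
  exact (Set.inter_eq_right.mpr hcl).symm

omit [IsIntegral X] [IsLocallyNoetherian X] in
theorem exists_nhds_finite {P : X → Prop}
    (h : LocallyFinite (fun ξ : {ξ : ↥X // P ξ} => closure ({ξ.1} : Set ↥X))) (z : X) :
    ∃ t ∈ nhds z, (t ∩ {ξ | P ξ}).Finite := by
  obtain ⟨t, ht, hfin⟩ := h z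
  refine ⟨t, ht, (hfin.image Subtype.val).subset ?_⟩
  rintro ξ ⟨h1, h2⟩
  exact ⟨⟨ξ, h2⟩, ⟨ξ, subset_closure rfl, h1⟩, rfl⟩

/-- The rational section is, over a nonempty open, a multiple of a generator. -/
theorem exists_sord_eq {F : X.Modules} (h : R1 F) {v : F.presheaf.stalk (η X)} (hv : v ≠ 0) :
    ∃ (V : X.Opens) (_ : Nonempty V) (a : X.functionField), a ≠ 0 ∧
      ∀ x ∈ V, Order.coheight x = 1 → sord F x v = Scheme.ord a x := by
  obtain ⟨t₀, ht₀⟩ := h.gen
  obtain ⟨V, hV, ⟨e⟩⟩ := exists_isInvertible_nhd h.coh ht₀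
  obtain ⟨t, ht⟩ := exists_isGenOn_of_iso e
  obtain ⟨a, rfl⟩ := (ht.isGen (η X) hV).2 v
  have ha : a ≠ 0 := by
    rintro rfl
    exact hv (zero_smul _ _)
  refine ⟨V, ⟨⟨η X, hV⟩⟩, a, ha, fun x hx hx1 => ?_⟩
  have h1 : F.presheaf.germ V (η X) hV t =
      F.presheaf.stalkSpecializes (spec x) (F.presheaf.germ V x hx t) := (germ_spec F x hx t).symm
  simp only
  rw [h1]
  exact h.sord_smul_gen hx1 (ht.isGen x hx) a ha

/-- The divisor of a rational section. -/
theorem exists_cycle {F : X.Modules} (h : R1 F) {v : F.presheaf.stalk (η X)} (hv : v ≠ 0) :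
    ∃ D : AlgebraicCycle X ℤ, (∀ x : ↥X, Order.coheight x ≠ 1 → D x = 0) ∧
      ∀ (x : ↥X), Order.coheight x = 1 → D x = sord F x v := by
  classical
  obtain ⟨V, hVne, a, ha, hV⟩ := exists_sord_eq h hv
  refine ⟨⟨fun x => if Order.coheight x = 1 then sord F x v else 0, fun _ _ => trivial, ?_⟩, ?_, ?_⟩
  · intro z _
    obtain ⟨t, ht, hfin⟩ := exists_nhds_finite (locallyFinite_compl V) z
    obtain ⟨t', ht', hfin'⟩ := exists_nhds_finite (Groth.Agent.S1692.result X a ha) z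
    refine ⟨t ∩ t', Filter.inter_mem ht ht', (hfin.union hfin').subset ?_⟩
    rintro x ⟨⟨h1, h2⟩, h3⟩
    have h3 : (if Order.coheight x = 1 then sord F x v else 0) ≠ 0 := h3
    have hx : Order.coheight x = 1 := by
      by_contra hc
      rw [if_neg hc] at h3
      exact h3 rfl
    rw [if_pos hx] at h3
    by_cases hxV : x ∈ V
    · rw [hV x hxV hx] at h3
      exact Or.inr ⟨h2, hx, h3⟩
    · exact Or.inl ⟨h1, hx, hxV⟩
  · intro x hx
    exact if_neg hx
  · intro x hx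
    exact if_pos hx

end K475.Ref1Div
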