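import Groth.Agent.SDiv.K475.KSub
import Groth.Agent.SDiv.K475.Ref1Div
import Groth.Agent.Lipman.Loc
import Groth.Agent.SDiv.K476.HomSh3

/-!
# The sheaf `O(D)` of a Weil divisor on a normal integral locally Noetherian scheme
-/

set_option autoImplicit false
universe u
open CategoryTheory CategoryTheory.Limits AlgebraicGeometry TopologicalSpace Opposite

noncomputable section

namespace K475.DivSheaf

open Groth.Agent.CycB Groth.Agent.CycB.ModStalk K475.GenStalk K475.KSub K475.Ref1Ord
open Groth.Agent.Ega4dB.CDivNormal Groth.Agent.Ega4dB.CDivUFD Groth.Agent.Ega4dB.CDivAffine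

variable {X : Scheme.{u}} [IsIntegral X] [IsLocallyNoetherian X]

/-- The rational functions of order at least `-D x` at `x`. -/
def P (hX : Pi1.IsNormalScheme X) (D : X → ℤ) (x : X) :
    Submodule (X.presheaf.stalk x) X.functionField where
  carrier := {a | Order.coheight x = 1 → a ≠ 0 → - D x ≤ Scheme.ord a x}
  zero_mem' := fun _ h => absurd rfl h
  add_mem' {a b} ha hb hx hab := by
    have := isDVR_of_coheight hX hx
    by_cases h1 : a = 0
    · subst h1
      rw [zero_add] at hab ⊢
      exact hb hx hab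
    by_cases h2 : b = 0
    · subst h2
      rw [add_zero] at hab ⊢
      exact ha hx hab
    exact (le_min (ha hx h1) (hb hx h2)).trans (Scheme.ord_add hab)
  smul_mem' c a ha hx hca := by
    rw [Algebra.smul_def] at hca ⊢
    have h1 := left_ne_zero_of_mul hca
    have h2 := right_ne_zero_of_mul hca
    rw [Scheme.ord_mul h1 h2]
    have h3 := ord_nonneg_of_mem_range x _ h1 ⟨c, rfl⟩
    have h4 := ha hx h2
    omega

variable (hX : Pi1.IsNormalScheme X) {D : X → ℤ}

theorem mem_P_iff {x : X} {a : X.functionField} (ha : a ≠ 0) :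
    a ∈ P hX D x ↔ (Order.coheight x = 1 → - D x ≤ Scheme.ord a x) :=
  ⟨fun h hx => h hx ha, fun h hx _ => h hx⟩

/-- The sheaf `O(D)`. -/
abbrev O (D : X → ℤ) : X.Modules := mod (P hX D)

/-- Local finiteness of the bad points. -/
theorem finite_bad (hD : LocallyFiniteSupport D) {W : Set X} (hW : IsCompact W)
    {a : X.functionField} (ha : a ≠ 0) :
    {y | y ∈ W ∧ Order.coheight y = 1 ∧ (D y ≠ 0 ∨ Scheme.ord a y ≠ 0)}.Finite := by
  have h1 := hD.finite_inter_support_of_isCompact hW
  have h2 := LocallyFinite.finite_nonempty_inter_compact (Groth.Agent.S1692.result X a ha) hW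
  refine (h1.union (h2.image Subtype.val)).subset ?_
  rintro y ⟨hyW, hy1, hy | hy⟩
  · exact Or.inl ⟨hyW, hy⟩
  · exact Or.inr ⟨⟨y, hy1, hy⟩, ⟨y, subset_closure rfl, hyW⟩, rfl⟩

/-- The stalks of `O(D)`. -/
theorem range_val_iff (hD : LocallyFiniteSupport D) (x : X) {a : X.functionField} (ha : a ≠ 0) :
    a ∈ Set.range (val (P hX D) x) ↔
      ∀ y : X, y ⤳ x → Order.coheight y = 1 → - D y ≤ Scheme.ord a y := by
  rw [range_val]
  constructor
  · rintro ⟨U, hx, h⟩ y hy hy1
    exact (mem_P_iff hX ha).mp (h y (hy.mem_open U.2 hx)) hy1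
  · intro h
    obtain ⟨U, hU, hxU, -⟩ := exists_isAffineOpen_mem_and_subset (X := X) (x := x) (U := ⊤) trivial
    have hfin := finite_bad hD hU.isCompact ha
    set S : Set X := {y | (y ∈ (U : Set X) ∧ Order.coheight y = 1 ∧ (D y ≠ 0 ∨ Scheme.ord a y ≠ 0)) ∧
      ¬ y ⤳ x} with hS
    have hSfin : S.Finite := hfin.subset fun y hy => hy.1
    have hcl : IsClosed (⋃ y ∈ S, closure ({y} : Set X)) :=
      hSfin.isClosed_biUnion fun _ _ => isClosed_closure
    let V : X.Opens := U ⊓ ⟨(⋃ y ∈ S, closure ({y} : Set X))ᶜ, hcl.isOpen_compl⟩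
    refine ⟨V, ⟨hxU, ?_⟩, fun y hy => (mem_P_iff hX ha).mpr fun hy1 => ?_⟩
    · intro hmem
      obtain ⟨y, hyS, hyx⟩ := Set.mem_iUnion₂.mp hmem
      exact hyS.2 (specializes_iff_mem_closure.mpr hyx)
    · by_cases hbad : D y ≠ 0 ∨ Scheme.ord a y ≠ 0
      · by_cases hyx : y ⤳ x
        · exact h y hyx hy1
        · exfalso
          exact hy.2 (Set.mem_iUnion₂.mpr ⟨y, ⟨⟨hy.1, hy1, hbad⟩, hyx⟩, subset_closure rfl⟩)
      · push Not at hbad
        rw [hbad.1, hbad.2]
        simp

/-! ### Quasi-coherence -/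

open Groth.Agent.Ega1.QCohLoc (res resO IsLocAt)

theorem ord_sum_bound {ι : Type*} (S : Finset ι) (c : ι → ℕ) {i : ι} (hi : i ∈ S) :
    c i ≤ ∑ j ∈ S, c j := Finset.single_le_sum (fun _ _ => Nat.zero_le _) hi

theorem ord_pow (x : X) {f : X.functionField} (hf : f ≠ 0) (n : ℕ) :
    Scheme.ord (f ^ n) x = n * Scheme.ord f x := by
  induction n with
  | zero => simp [ord_one]
  | succ n ih =>
    rw [pow_succ, Scheme.ord_mul (pow_ne_zero n hf) hf, ih]
    push_cast
    ring

/-- The rational function of a section. -/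
abbrev rat {U : X.Opens} (hη : η X ∈ U) (r : Γ(X, U)) : X.functionField :=
  X.presheaf.germ U (η X) hη r

omit [IsLocallyNoetherian X] in
theorem rat_eq {U : X.Opens} (hη : η X ∈ U) (x : X) (hx : x ∈ U) (r : Γ(X, U)) :
    rat hη r = algebraMap (X.presheaf.stalk x) X.functionField (X.presheaf.germ U x hx r) :=
  (algebraMap_germ x hx hη r).symm

omit [IsLocallyNoetherian X] in
theorem rat_ne_zero {U : X.Opens} (hη : η X ∈ U) {r : Γ(X, U)} (hr : r ≠ 0) : rat hη r ≠ 0 := by
  intro h
  exact hr (germ_injective_of_isIntegral X (η X) hη (h.trans (map_zero _).symm))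

theorem ord_rat_nonneg {U : X.Opens} (hη : η X ∈ U) {r : Γ(X, U)} (hr : r ≠ 0) {x : X}
    (hx : x ∈ U) : 0 ≤ Scheme.ord (rat hη r) x :=
  ord_nonneg_of_mem_range x _ (rat_ne_zero hη hr) ⟨_, (rat_eq hη x hx r).symm⟩

include hX in
/-- Sections vanishing at a codimension one point have positive order. -/
theorem ord_rat_pos {U : X.Opens} (hη : η X ∈ U) {r : Γ(X, U)} (hr : r ≠ 0) {x : X}
    (hx1 : Order.coheight x = 1) (hx : x ∈ U) (hxr : x ∉ X.basicOpen r) :
    0 < Scheme.ord (rat hη r) x := by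
  refine lt_of_le_of_ne (ord_rat_nonneg hη hr hx) fun h0 => hxr ?_
  have hDVR := isDVR_of_coheight hX hx1
  have h1 : 0 ≤ Scheme.ord (rat hη r)⁻¹ x := by
    rw [ord_inv _ _ (rat_ne_zero hη hr), ← h0]
    simp
  have h2 := (mem_range_iff_ord hX hx1 (inv_ne_zero (G₀ := X.functionField)
    (rat_ne_zero hη hr))).mpr h1
  obtain ⟨c, hc⟩ := h2
  rw [X.mem_basicOpen r x hx]
  refine IsUnit.of_mul_eq_one c (K475.Codim1Ring.stalkSpecializes_injective x ?_)
  rw [map_mul, map_one, hc]
  have h3 : X.presheaf.stalkSpecializes (spec x) (X.presheaf.germ U x hx r) = rat hη r :=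
    (rat_eq hη x hx r).symm
  rw [h3]
  exact mul_inv_cancel₀ (G₀ := X.functionField) (rat_ne_zero hη hr)

theorem isLocAt (hD : LocallyFiniteSupport D) {U : X.Opens} (hU : IsAffineOpen U) (f : Γ(X, U)) :
    IsLocAt (O hX D) U f := by
  constructor
  · intro s
    by_cases hη : η X ∈ X.basicOpen f
    · have hηU : η X ∈ U := X.basicOpen_le f hη
      set a : X.functionField := s.1 ⟨η X, hη⟩ with ha
      have hs : ∀ y : X.basicOpen f, s.1 y = a := fun y => apply_eq s _ _
      by_cases ha0 : a = 0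
      · refine ⟨0, 0, ?_⟩
        have : s = 0 := ext fun y => (hs y).trans ha0
        rw [this, smul_zero]
        exact ext fun y => rfl
      have hf0 : f ≠ 0 := by
        rintro rfl
        rw [Scheme.basicOpen_zero] at hη
        exact hη
      have hfin := finite_bad hD hU.isCompact ha0
      let n : ℕ := ∑ y ∈ hfin.toFinset, (D y + Scheme.ord a y).natAbs
      have hfn : rat hηU f ^ n ≠ 0 := pow_ne_zero _ (rat_ne_zero hηU hf0)
      have hmem : ∀ y ∈ U, rat hηU f ^ n * a ∈ P hX D y := by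
        intro y hy
        rw [mem_P_iff hX (mul_ne_zero hfn ha0)]
        intro hy1
        rw [Scheme.ord_mul hfn ha0, ord_pow y (rat_ne_zero hηU hf0)]
        have h1 := ord_rat_nonneg hηU hf0 hy
        by_cases hyf : y ∈ X.basicOpen f
        · have h2 := (mem_P_iff hX ha0).mp ((hs ⟨y, hyf⟩) ▸ apply_mem s ⟨y, hyf⟩) hy1
          have h3 : (0 : ℤ) ≤ n * Scheme.ord (rat hηU f) y := by positivity
          omega
        · have h2 := ord_rat_pos hX hηU hf0 hy1 hy hyf
          by_cases hbad : D y ≠ 0 ∨ Scheme.ord a y ≠ 0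
          · have h3 : (D y + Scheme.ord a y).natAbs ≤ n :=
              ord_sum_bound hfin.toFinset (fun y => (D y + Scheme.ord a y).natAbs)
                (by rw [Set.Finite.mem_toFinset]; exact ⟨hy, hy1, hbad⟩)
            have h4 : (n : ℤ) ≤ n * Scheme.ord (rat hηU f) y := by
              nlinarith [Int.natCast_nonneg n]
            omega
          · push Not at hbad
            rw [hbad.1, hbad.2]
            have h3 : (0 : ℤ) ≤ n * Scheme.ord (rat hηU f) y := by positivity
            omega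
      refine ⟨n, mk U (rat hηU f ^ n * a) hmem, ext fun y => ?_⟩
      change rat hηU f ^ n * a = X.presheaf.germ _ y.1 y.2 (resO (X.basicOpen_le f) f ^ n) • s.1 y
      have h5 : rat hη (resO (X.basicOpen_le f) f ^ n) = rat hηU f ^ n := by
        change X.presheaf.germ _ (η X) hη (resO (X.basicOpen_le f) f ^ n) = _
        rw [map_pow]
        congr 1
        exact X.presheaf.germ_res_apply _ _ _ _
      rw [hs y, Algebra.smul_def, ← rat_eq hη y.1 y.2, h5]
    · refine ⟨0, 0, ext fun y => absurd (mem_of_nonempty y.2) hη⟩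
  · intro t ht
    by_cases hη : η X ∈ X.basicOpen f
    · refine ⟨0, ?_⟩
      have : t = 0 := by
        refine ext fun y => ?_
        have h1 := congrArg (fun s : Γ(O hX D, X.basicOpen f) => s.1 ⟨η X, hη⟩) ht
        rw [apply_eq t y ⟨η X, X.basicOpen_le f hη⟩]
        exact h1
      rw [this, smul_zero]
    · refine ⟨1, ?_⟩
      have hf : f = 0 := by
        rw [← basicOpen_eq_bot_iff, eq_bot_iff]
        intro y hy
        exact absurd (mem_of_nonempty hy) hη
      rw [hf, pow_one, zero_smul]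

theorem isQCoh (hD : LocallyFiniteSupport D) : Coh.IsQCoh (O hX D) :=
  Groth.Agent.Ega1.QCohLoc.isQCoh_of_isLocOnAffines _ fun _ hU f => isLocAt hX hD hU f

end K475.DivSheaf

end
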