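import Groth.Agent.SDiv.K475.Codim1Ring
import Groth.Prelude.Def_MeroSh

/-!
# Submodules of the constant sheaf of rational functions given by a family of submodules

For an integral scheme `X` and submodules `P x` of the function field over the local rings, `mod P` is the
sheaf whose sections over a nonempty open `U` are the rational functions lying in `P x` for all `x ∈ U`.
-/

set_option autoImplicit false
universe u
open CategoryTheory CategoryTheory.Limits AlgebraicGeometry TopologicalSpace Opposite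

noncomputable section

namespace K475.KSub

open Groth.Agent.CycB K475.GenStalk

variable {X : Scheme.{u}} [IsIntegral X]
  (P : ∀ x : X, Submodule (X.presheaf.stalk x) X.functionField)

/-- Constant functions with values in the `P x`. -/
def loc : TopCat.LocalPredicate (fun _ : X => (X.functionField : Type u)) where
  pred {U} f := (∀ x y : U, f x = f y) ∧ ∀ x : U, f x ∈ P x.1
  res {U' U} i f h := ⟨fun x y => h.1 _ _, fun x => h.2 ⟨x.1, i.le x.2⟩⟩
  locality {U} f h := by
    refine ⟨fun x y => ?_, fun x => ?_⟩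
    · obtain ⟨V, hxV, i, h1, -⟩ := h x
      obtain ⟨W, hyW, j, h2, -⟩ := h y
      have hηV : η X ∈ V := mem_of_nonempty hxV
      have hηW : η X ∈ W := mem_of_nonempty hyW
      exact (h1 ⟨x.1, hxV⟩ ⟨η X, hηV⟩).trans (h2 ⟨η X, hηW⟩ ⟨y.1, hyW⟩)
    · obtain ⟨V, hxV, i, -, h2⟩ := h x
      exact h2 ⟨x.1, hxV⟩

theorem algebraMap_germ {U : X.Opens} (x : X) (hx : x ∈ U) (hη : η X ∈ U) (r : Γ(X, U)) :
    algebraMap (X.presheaf.stalk x) X.functionField (X.presheaf.germ U x hx r) =
      X.presheaf.germ U (η X) hη r :=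
  TopCat.Presheaf.germ_stalkSpecializes_apply X.presheaf hx (spec x) r

instance : Mero.IsModPred (loc P) where
  zero U := ⟨fun _ _ => rfl, fun x => (P x.1).zero_mem⟩
  add U f g hf hg := ⟨fun x y => congrArg₂ (· + ·) (hf.1 x y) (hg.1 x y),
    fun x => (P x.1).add_mem (hf.2 x) (hg.2 x)⟩
  smul U r f hf := ⟨fun x y => by
    change _ • f x = _ • f y
    rw [Algebra.smul_def, Algebra.smul_def, hf.1 x y,
      algebraMap_germ x.1 x.2 (mem_of_nonempty x.2) r,
      algebraMap_germ y.1 y.2 (mem_of_nonempty x.2) r],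
    fun x => (P x.1).smul_mem _ (hf.2 x)⟩

/-- The sheaf of rational functions lying in the `P x`. -/
def mod : X.Modules := Mero.modOf (loc P)

variable {P}

theorem apply_eq {U : X.Opens} (s : Γ(mod P, U)) (x y : U) : s.1 x = s.1 y := s.2.1 x y

theorem apply_mem {U : X.Opens} (s : Γ(mod P, U)) (x : U) : s.1 x ∈ P x.1 := s.2.2 x

theorem ext {U : X.Opens} {s t : Γ(mod P, U)} (h : ∀ x : U, s.1 x = t.1 x) : s = t :=
  Subtype.ext (funext h)

/-- The section defined by a rational function. -/
def mk (U : X.Opens) (a : X.functionField) (h : ∀ x ∈ U, a ∈ P x) : Γ(mod P, U) :=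
  ⟨fun _ => a, fun _ _ => rfl, fun x => h x.1 x.2⟩

@[simp] theorem mk_apply (U : X.Opens) (a : X.functionField) (h : ∀ x ∈ U, a ∈ P x) (x : U) :
    (mk U a h).1 x = a := rfl

theorem add_apply {U : X.Opens} (s t : Γ(mod P, U)) (x : U) : (s + t).1 x = s.1 x + t.1 x := rfl

theorem smul_apply {U : X.Opens} (r : Γ(X, U)) (s : Γ(mod P, U)) (x : U) :
    (r • s).1 x = X.presheaf.germ U x.1 x.2 r • s.1 x := rfl

theorem smul_val {U : X.Opens} (hη : η X ∈ U) (r : Γ(X, U)) (s : Γ(mod P, U)) (x : U) :
    (r • s).1 x = (X.presheaf.germ U (η X) hη r : X.functionField) * s.1 x := by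
  rw [smul_apply, Algebra.smul_def, algebraMap_germ x.1 x.2 hη r]

theorem zero_apply {U : X.Opens} (x : U) : (0 : Γ(mod P, U)).1 x = 0 := rfl

theorem res_apply {U V : X.Opens} (i : V ⟶ U) (s : Γ(mod P, U)) (x : V) :
    ((mod P).presheaf.map i.op s).1 x = s.1 ⟨x.1, i.le x.2⟩ := rfl

variable (P)

/-- The cocone of values. -/
def valCocone (x : X) : Cocone ((OpenNhds.inclusion x).op ⋙ (mod P).presheaf) where
  pt := AddCommGrpCat.of X.functionField
  ι :=
    { app := fun V => AddCommGrpCat.ofHom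
        { toFun := fun g => (g : Γ(mod P, V.unop.1)).1 ⟨x, V.unop.2⟩
          map_zero' := rfl
          map_add' := fun _ _ => rfl }
      naturality := fun V W i => by ext g; rfl }

/-- The value of a germ, as a map of abelian groups. -/
def valAdd (x : X) : (mod P).presheaf.stalk x ⟶ AddCommGrpCat.of X.functionField :=
  colimit.desc _ (valCocone P x)

theorem valAdd_germ {U : X.Opens} (x : X) (hx : x ∈ U) (g : Γ(mod P, U)) :
    (valAdd P x).hom ((mod P).presheaf.germ U x hx g) = g.1 ⟨x, hx⟩ := by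
  change ((mod P).presheaf.germ U x hx ≫ valAdd P x).hom g = _
  have e : (mod P).presheaf.germ U x hx ≫ valAdd P x = (valCocone P x).ι.app (op ⟨U, hx⟩) :=
    colimit.ι_desc _ _
  rw [e]
  rfl

/-- The value of a germ. -/
def val (x : X) : (mod P).presheaf.stalk x →+ X.functionField := (valAdd P x).hom

@[simp] theorem val_germ {U : X.Opens} (x : X) (hx : x ∈ U) (g : Γ(mod P, U)) :
    val P x ((mod P).presheaf.germ U x hx g) = g.1 ⟨x, hx⟩ :=
  valAdd_germ P x hx g

theorem val_injective (x : X) : Function.Injective (val P x) := by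
  rw [injective_iff_map_eq_zero]
  intro m hm
  obtain ⟨U, hx, g, rfl⟩ := TopCat.Presheaf.exists_germ_eq (mod P).presheaf m
  rw [val_germ] at hm
  have : g = 0 := ext fun y => (apply_eq g y ⟨x, hx⟩).trans hm
  rw [this, map_zero]

theorem range_val (x : X) (a : X.functionField) :
    a ∈ Set.range (val P x) ↔ ∃ U : X.Opens, x ∈ U ∧ ∀ y ∈ U, a ∈ P y := by
  constructor
  · rintro ⟨m, rfl⟩
    obtain ⟨U, hx, g, rfl⟩ := TopCat.Presheaf.exists_germ_eq (mod P).presheaf m
    refine ⟨U, hx, fun y hy => ?_⟩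
    rw [val_germ, apply_eq g ⟨x, hx⟩ ⟨y, hy⟩]
    exact apply_mem g ⟨y, hy⟩
  · rintro ⟨U, hx, h⟩
    exact ⟨(mod P).presheaf.germ U x hx (mk U a h), val_germ _ _ _ _⟩

theorem val_spec {x y : X} (h : y ⤳ x) (m : (mod P).presheaf.stalk x) :
    val P y ((mod P).presheaf.stalkSpecializes h m) = val P x m := by
  obtain ⟨U, hx, g, rfl⟩ := TopCat.Presheaf.exists_germ_eq (mod P).presheaf m
  have h1 : (mod P).presheaf.stalkSpecializes h ((mod P).presheaf.germ U x hx g) =
      (mod P).presheaf.germ U y (h.mem_open U.2 hx) g :=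
    TopCat.Presheaf.germ_stalkSpecializes_apply (mod P).presheaf hx h g
  rw [h1, val_germ, val_germ]
  exact apply_eq g _ _

theorem inj_mod : Inj (mod P) := by
  intro x m m' h
  apply val_injective P x
  rw [← val_spec P (spec x) m, h, val_spec]

/-- Membership in the stalk, seen in the generic stalk. -/
theorem mem_range_spec_iff (x : X) (v : (mod P).presheaf.stalk (η X)) :
    v ∈ Set.range ((mod P).presheaf.stalkSpecializes (spec x)) ↔
      val P (η X) v ∈ Set.range (val P x) := by
  constructor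
  · rintro ⟨m, rfl⟩
    exact ⟨m, (val_spec P (spec x) m).symm⟩
  · rintro ⟨m, hm⟩
    refine ⟨m, val_injective P _ ?_⟩
    rw [val_spec, hm]

theorem val_smul (x : X) (a : X.presheaf.stalk x) (m : (mod P).presheaf.stalk x) :
    val P x (a • m) = (X.presheaf.stalkSpecializes (spec x) a : X.functionField) * val P x m := by
  obtain ⟨Ua, ha, r, rfl⟩ := TopCat.Presheaf.exists_germ_eq X.presheaf a
  obtain ⟨Ut, ht, g, rfl⟩ := TopCat.Presheaf.exists_germ_eq (mod P).presheaf m
  have hW : x ∈ Ua ⊓ Ut := ⟨ha, ht⟩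
  have e1 : X.presheaf.germ Ua x ha r = X.presheaf.germ (Ua ⊓ Ut) x hW
      (X.presheaf.map (homOfLE inf_le_left).op r) :=
    (TopCat.Presheaf.germ_res_apply X.presheaf _ x hW r).symm
  have e2 : (mod P).presheaf.germ Ut x ht g = (mod P).presheaf.germ (Ua ⊓ Ut) x hW
      ((mod P).presheaf.map (homOfLE inf_le_right).op g) :=
    (TopCat.Presheaf.germ_res_apply (mod P).presheaf _ x hW g).symm
  rw [e1, e2]
  generalize X.presheaf.map (homOfLE inf_le_left).op r = r'
  generalize (mod P).presheaf.map (homOfLE inf_le_right).op g = g'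
  have e3 := Mero.germ_smul (mod P) (Ua ⊓ Ut) x hW r' g'
  rw [← e3, val_germ, val_germ]
  change X.presheaf.germ (Ua ⊓ Ut) x hW r' • g'.1 ⟨x, hW⟩ = _
  rw [Algebra.smul_def]
  rfl

theorem specializes_eta (a : X.presheaf.stalk (η X)) :
    X.presheaf.stalkSpecializes (spec (η X)) a = a := by
  obtain ⟨U, hU, r, rfl⟩ := TopCat.Presheaf.exists_germ_eq X.presheaf a
  exact TopCat.Presheaf.germ_stalkSpecializes_apply X.presheaf hU (spec (η X)) r

theorem val_smul_eta (a : X.presheaf.stalk (η X)) (m : (mod P).presheaf.stalk (η X)) :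
    val P (η X) (a • m) = (a : X.functionField) * val P (η X) m := by
  rw [val_smul, specializes_eta]

end K475.KSub

end
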