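import Groth.Agent.SDiv.K475.SecSys
import Mathlib.RingTheory.Polynomial.Cyclotomic.Roots

/-!
# Sections `Σ ξ^j b^*(a_j)` and their local equations

For `b : Z ⟶ Y`, `a_j` sections of `A` over `X₀ ⊆ Y` and `ξ` a function on `Z`:
* `eqs b ξ a`: local equations; `isSys_eqs`, `exists_eqs`, `eqs_pull`;
* `Cop a n y`: the polynomial `Σ a_j(y) X^j` is coprime to `Φ_n`; `mem_basicOpen_of_cop`: then the local equations do not
  vanish at points over `y`, if `Φ_n(ξ) = 0`;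
* `secPoly`: the section of `b^* A`; `locEq_secPoly`.
-/

set_option autoImplicit false
universe u

open CategoryTheory CategoryTheory.Limits AlgebraicGeometry TopologicalSpace Opposite

namespace K475.PolySys

open Groth.Agent.Fdesc.LocGen Groth.Agent.Ega2.Nv Groth.Agent.Ega2.Ample K475.Sys K475.SecSys

variable {Y Z : Scheme.{u}} {A : Y.Modules} {X₀ : Y.Opens} {r : ℕ}

/-- local equations of `Σ ξ^j b^*(a_j)` -/
def eqs (b : Z ⟶ Y) (ξ : Γ(Z, ⊤)) (a : Fin r → Γ(A, X₀)) : Eqs Z := fun V x =>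
  ∃ (W : Y.Opens) (hW : W ≤ X₀) (ε : Γ(A, W)) (α : Fin r → Γ(Y, W)) (e : V ≤ b ⁻¹ᵁ W), IsGen ε ∧
    (∀ j, res A hW (a j) = α j • ε) ∧
    x = ∑ j : Fin r, ores (le_top : V ≤ ⊤) ξ ^ (j : ℕ) * (b.appLE W V e).hom (α j)

theorem isSys_eqs (b : Z ⟶ Y) (ξ : Γ(Z, ⊤)) (a : Fin r → Γ(A, X₀)) : IsSys (eqs b ξ a) := by
  rintro V V' h x ⟨W, hW, ε, α, e, h1, h2, rfl⟩
  refine ⟨W, hW, ε, α, h.trans e, h1, h2, ?_⟩
  rw [map_sum]
  refine Finset.sum_congr rfl fun j _ => ?_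
  rw [map_mul, map_pow, ores_ores, ← Scheme.Hom.appLE_map b e (homOfLE h).op]
  rfl

theorem exists_eqs (b : Z ⟶ Y) (ξ : Γ(Z, ⊤)) (a : Fin r → Γ(A, X₀)) (hA : PicF.IsInvertible A)
    {z : Z} (hz : b z ∈ X₀) : ∃ V : Z.Opens, z ∈ V ∧ ∃ x, eqs b ξ a V x := by
  obtain ⟨V, e, hxV, he⟩ := (isInvertible_iff A).mp hA (b z)
  choose c hc using fun j => (he.res (inf_le_left : V ⊓ X₀ ≤ V)).exists_eq (res A inf_le_right (a j))
  exact ⟨b ⁻¹ᵁ (V ⊓ X₀), ⟨hxV, hz⟩, _, V ⊓ X₀, inf_le_right, _, c, le_rfl, he.res _, hc, rfl⟩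

theorem eqs_pull {Z' : Scheme.{u}} (j : Z' ⟶ Z) (b : Z ⟶ Y) (ξ : Γ(Z, ⊤)) (a : Fin r → Γ(A, X₀)) (V : Z.Opens)
    (x : Γ(Z, V)) (h : eqs b ξ a V x) : eqs (j ≫ b) (j.app ⊤ ξ) a (j ⁻¹ᵁ V) (j.app V x) := by
  obtain ⟨W, hW, ε, α, e, h1, h2, rfl⟩ := h
  refine ⟨W, hW, ε, α, ?_, h1, h2, ?_⟩
  · rw [Scheme.Hom.comp_preimage]
    exact Scheme.Hom.preimage_mono _ e
  · change (j.app V).hom _ = _
    rw [map_sum]
    refine Finset.sum_congr rfl fun i _ => ?_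
    have h3 : b.appLE W V e ≫ j.app V = (j ≫ b).appLE W (j ⁻¹ᵁ V) (by
        rw [Scheme.Hom.comp_preimage]; exact Scheme.Hom.preimage_mono _ e) := by
      rw [← Scheme.Hom.appLE_eq_app, Scheme.Hom.appLE_comp_appLE]
    have e1 : (j.app V).hom (ores (le_top : V ≤ ⊤) ξ) = ores (le_top : j ⁻¹ᵁ V ≤ ⊤) (j.app ⊤ ξ) :=
      app_ores j (le_top : V ≤ ⊤) ξ
    have e2 : (j.app V).hom ((b.appLE W V e).hom (α i)) = ((j ≫ b).appLE W (j ⁻¹ᵁ V) (by
        rw [Scheme.Hom.comp_preimage]; exact Scheme.Hom.preimage_mono _ e)).hom (α i) := congr(($h3).hom (α i))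
    rw [map_mul, map_pow, e1, e2]

/-- evaluation does not see restriction -/
theorem evaluation_ores {V V' : Y.Opens} (h : V' ≤ V) (y : Y) (hy : y ∈ V') (a : Γ(Y, V)) :
    (Y.evaluation V' y hy).hom (ores h a) = (Y.evaluation V y (h hy)).hom a := by
  change (Y.residue y).hom (Y.presheaf.germ _ _ _ _) = (Y.residue y).hom (Y.presheaf.germ _ _ _ _)
  congr 1
  exact Y.presheaf.germ_res_apply _ _ _ _

open Polynomial

/-- the polynomial `Σ α_j(y) X^j` over the residue field at `y` -/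
noncomputable def polyAt {W : Y.Opens} (α : Fin r → Γ(Y, W)) (y : Y) (hy : y ∈ W) : (Y.residueField y)[X] :=
  ∑ j : Fin r, C ((Y.evaluation W y hy).hom (α j)) * X ^ (j : ℕ)

/-- near `y` the sections `a_j` have coordinates whose polynomial at `y` is coprime to `Φ_n` -/
def Cop (a : Fin r → Γ(A, X₀)) (n : ℕ) (y : Y) : Prop :=
  ∃ (W : Y.Opens) (hy : y ∈ W) (hW : W ≤ X₀) (ε : Γ(A, W)) (α : Fin r → Γ(Y, W)), IsGen ε ∧
    (∀ j, res A hW (a j) = α j • ε) ∧ IsCoprime (polyAt α y hy) (cyclotomic n (Y.residueField y))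

theorem eval_map_polyAt {W : Y.Opens} (α : Fin r → Γ(Y, W)) (y : Y) (hy : y ∈ W) {K : Type u} [CommRing K]
    (β : Y.residueField y →+* K) (θ : K) : ((polyAt α y hy).map β).eval θ =
      ∑ j : Fin r, θ ^ (j : ℕ) * β ((Y.evaluation W y hy).hom (α j)) := by
  rw [polyAt, Polynomial.map_sum, eval_finsetSum]
  refine Finset.sum_congr rfl fun j _ => ?_
  rw [Polynomial.map_mul, Polynomial.map_pow, map_X, map_C, eval_mul, eval_C, eval_pow, eval_X, mul_comm]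

theorem coeff_polyAt {W : Y.Opens} (α : Fin r → Γ(Y, W)) (y : Y) (hy : y ∈ W) (j : Fin r) :
    (polyAt α y hy).coeff j = (Y.evaluation W y hy).hom (α j) := by
  rw [polyAt, finsetSum_coeff, Finset.sum_eq_single j]
  · simp
  · intro i _ hij
    rw [coeff_C_mul, coeff_X_pow, if_neg (fun h => hij (Fin.ext h).symm), mul_zero]
  · intro h
    exact (h (Finset.mem_univ j)).elim

/-- coordinates near a point where one of the sections generates -/
theorem exists_polyAt_ne_zero (a : Fin r → Γ(A, X₀)) (hA : PicF.IsInvertible A) {y : Y} (j : Fin r)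
    (hj : y ∈ nv A (a j)) : ∃ (W : Y.Opens) (hy : y ∈ W) (hW : W ≤ X₀) (ε : Γ(A, W)) (α : Fin r → Γ(Y, W)),
      IsGen ε ∧ (∀ j, res A hW (a j) = α j • ε) ∧ polyAt α y hy ≠ 0 := by
  obtain ⟨V, e, hxV, he⟩ := (isInvertible_iff A).mp hA y
  have hy : y ∈ V ⊓ X₀ := ⟨hxV, nv_le _ _ hj⟩
  choose c hc using fun j => (he.res (inf_le_left : V ⊓ X₀ ≤ V)).exists_eq (res A inf_le_right (a j))
  refine ⟨V ⊓ X₀, hy, inf_le_right, _, c, he.res _, hc, fun h0 => ?_⟩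
  have h1 : (V ⊓ X₀) ⊓ nv A (a j) = Y.basicOpen (c j) := nv_inf_of_eq_smul (a j) inf_le_right (he.res _) _ (hc j)
  have h2 : y ∈ Y.basicOpen (c j) := by
    rw [← h1]; exact ⟨hy, hj⟩
  have h3 := coeff_polyAt c y hy j
  rw [h0, coeff_zero] at h3
  exact (Y.evaluation_ne_zero_iff_mem_basicOpen y hy (c j)).mpr h2 h3.symm

theorem cop_all {a : Fin r → Γ(A, X₀)} {n : ℕ} {y : Y} (h : Cop a n y) {W : Y.Opens} (hy : y ∈ W) (hW : W ≤ X₀)
    {ε : Γ(A, W)} {α : Fin r → Γ(Y, W)} (hα : ∀ j, res A hW (a j) = α j • ε) :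
    IsCoprime (polyAt α y hy) (cyclotomic n (Y.residueField y)) := by
  obtain ⟨W₀, hy₀, hW₀, ε₀, α₀, hε₀, hα₀, hcop⟩ := h
  obtain ⟨u, hu⟩ := (hε₀.res (inf_le_left : W₀ ⊓ W ≤ W₀)).exists_eq (res A (inf_le_right : W₀ ⊓ W ≤ W) ε)
  have hyy : y ∈ W₀ ⊓ W := ⟨hy₀, hy⟩
  have key : ∀ j, (Y.evaluation W₀ y hy₀).hom (α₀ j) =
      (Y.evaluation W y hy).hom (α j) * (Y.evaluation (W₀ ⊓ W) y hyy).hom u := by
    intro j
    have h1 : ores (inf_le_left : W₀ ⊓ W ≤ W₀) (α₀ j) = ores (inf_le_right : W₀ ⊓ W ≤ W) (α j) * u := by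
      apply (hε₀.res (inf_le_left : W₀ ⊓ W ≤ W₀)).ext
      rw [← res_smul, ← hα₀, mul_smul, ← hu, ← res_smul, ← hα, res_res, res_res]
    have h2 := congrArg (Y.evaluation (W₀ ⊓ W) y hyy).hom h1
    rw [map_mul] at h2
    rw [evaluation_ores, evaluation_ores] at h2
    exact h2
  have h3 : polyAt α₀ y hy₀ = polyAt α y hy * C ((Y.evaluation (W₀ ⊓ W) y hyy).hom u) := by
    rw [polyAt, polyAt, Finset.sum_mul]
    refine Finset.sum_congr rfl fun j _ => ?_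
    rw [key, C_mul]
    ring
  rw [h3] at hcop
  exact hcop.of_mul_left_left

theorem mem_basicOpen_of_cop (b : Z ⟶ Y) (ξ : Γ(Z, ⊤)) (a : Fin r → Γ(A, X₀)) {n : ℕ}
    (hξ : (cyclotomic n Γ(Z, ⊤)).eval ξ = 0) {V : Z.Opens} {x : Γ(Z, V)} (hx : eqs b ξ a V x) {z : Z} (hz : z ∈ V)
    (hcop : Cop a n (b z)) : z ∈ Z.basicOpen x := by
  obtain ⟨W, hW, ε, α, e, h1, h2, rfl⟩ := hx
  have h3 := cop_all hcop (e hz) hW h2
  obtain ⟨p, q, hpq⟩ := h3
  rw [← Z.evaluation_ne_zero_iff_mem_basicOpen z hz]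
  set θ := (Z.evaluation ⊤ z trivial).hom ξ with hθ
  have hθ0 : (cyclotomic n (Z.residueField z)).eval θ = 0 := by
    have := congrArg (Z.evaluation ⊤ z trivial).hom hξ
    rw [map_zero, ← Polynomial.eval₂_at_apply, ← eval_map, map_cyclotomic] at this
    exact this
  have h4 := congrArg (fun f : (Y.residueField (b z))[X] => (f.map (b.residueFieldMap z).hom).eval θ) hpq
  simp only [Polynomial.map_add, Polynomial.map_mul, map_cyclotomic, Polynomial.map_one, eval_add, eval_mul,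
    eval_one, hθ0, mul_zero, add_zero] at h4
  have h5 : ((polyAt α (b z) (e hz)).map (b.residueFieldMap z).hom).eval θ =
      (Z.evaluation V z hz).hom (∑ j : Fin r, ores (le_top : V ≤ ⊤) ξ ^ (j : ℕ) * (b.appLE W V e).hom (α j)) := by
    refine (eval_map_polyAt α (b z) (e hz) (b.residueFieldMap z).hom θ).trans ?_
    rw [map_sum]
    refine Finset.sum_congr rfl fun j _ => ?_
    rw [map_mul, map_pow, evaluation_ores]
    congr 1
    have h6 : b.residueFieldMap z (Y.evaluation W (b z) (e hz) (α j)) =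
        Z.evaluation (b ⁻¹ᵁ W) z (e hz) (b.app W (α j)) := Scheme.evaluation_naturality_apply b z (e hz) (α j)
    refine Eq.trans h6 ?_
    exact (evaluation_ores e z hz (b.app W (α j))).symm
  intro h0
  rw [h5] at h4
  change (Z.evaluation V z hz).hom _ = 0 at h0
  rw [h0, mul_zero] at h4
  exact zero_ne_one h4

end K475.PolySys
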