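import Groth.Agent.SDiv.K475.AssPt
import Groth.Agent.SDiv.K470.RelCartFib
import Groth.Agent.Flat2D.SliceSeq
import Groth.Agent.Pi1C.ZeroScheme
import Groth.Prelude.Def_FGA

/-!
# Systems of local equations and relative effective Cartier divisors

* `GoodAt q E z`: near `z` some local equation of the system `E` is a nonzerodivisor with flat quotient over the base.
* `goodAt_of_fibAss`: it suffices that the equations are invertible at the associated points of the fibre.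
* `of_goodAt`: if `E` consists of local equations of a section `τ` and all points are good, the zero scheme of `τ`
  is an effective Cartier divisor flat over the base.
* `GoodAt.of_isOpenImmersion`: passing to open subschemes.
-/

set_option autoImplicit false
universe u

open CategoryTheory CategoryTheory.Limits AlgebraicGeometry TopologicalSpace IsLocalRing

namespace K475.Sys

open Groth.Agent.Fdesc.LocGen Groth.Agent.Ega4dB.FiberStalk Groth.Agent.Divis

variable {Z T : Scheme.{u}}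

/-- a system of local equations: which functions count as local equations over an open. -/
abbrev Eqs (Z : Scheme.{u}) := ∀ V : Z.Opens, Γ(Z, V) → Prop

/-- equations restrict to equations -/
def IsSys (E : Eqs Z) : Prop := ∀ (V V' : Z.Opens) (h : V' ≤ V) (a : Γ(Z, V)), E V a → E V' (ores h a)

/-- near `z` some equation is a nonzerodivisor with flat quotient -/
def GoodAt (q : Z ⟶ T) (E : Eqs Z) (z : Z) : Prop :=
  ∃ (U : T.affineOpens) (V : Z.affineOpens) (_ : z ∈ V.1) (e : V.1 ≤ q ⁻¹ᵁ U.1) (a : Γ(Z, V.1)),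
    E V.1 a ∧ a ∈ nonZeroDivisors Γ(Z, V.1) ∧
      ((Ideal.Quotient.mk (Ideal.span {a})).comp (q.appLE U.1 V.1 e).hom).Flat

theorem isOpen_goodAt (q : Z ⟶ T) (E : Eqs Z) : IsOpen {z | GoodAt q E z} := by
  rw [isOpen_iff_forall_mem_open]
  rintro z ⟨U, V, hz, e, a, h⟩
  exact ⟨V.1, fun y hy => ⟨U, V, hy, e, a, h⟩, V.1.2, hz⟩

theorem of_goodAt {M : Z.Modules} (hM : PicF.IsInvertible M) (τ : Coh.structureModule Z ⟶ M) (q : Z ⟶ T)
    (E : Eqs Z) (hE : ∀ V a, E V a → ∃ e : Γ(M, V), IsGen e ∧ sec τ V = a • e) (h : ∀ z, GoodAt q E z) :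
    FGA.IsEffCartier (PicF2.zeroScheme M τ) ∧ Flat ((PicF2.zeroScheme M τ).subschemeι ≫ q) := by
  have key : ∀ z, ∃ (U : T.affineOpens) (V : Z.affineOpens) (_ : z ∈ V.1) (e : V.1 ≤ q ⁻¹ᵁ U.1) (a : Γ(Z, V.1)),
      (PicF2.zeroScheme M τ).ideal V = Ideal.span {a} ∧ a ∈ nonZeroDivisors Γ(Z, V.1) ∧
      ((Ideal.Quotient.mk (Ideal.span {a})).comp (q.appLE U.1 V.1 e).hom).Flat := by
    intro z
    obtain ⟨U, V, hz, e, a, ha, ha', hf⟩ := h z
    obtain ⟨ε, hε, hτ⟩ := hE _ _ ha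
    exact ⟨U, V, hz, e, a, Groth.Agent.Pi1C.ZeroScheme.ideal_eq_span τ hM V hε hτ, ha', hf⟩
  constructor
  · intro z
    obtain ⟨U, V, hz, e, a, h1, h2, -⟩ := key z
    exact ⟨V, hz, a, h2, h1⟩
  · refine RelCartier.flat_of_quotMap q _ fun z => ?_
    obtain ⟨U, V, hz, e, a, h1, -, h2⟩ := key z
    refine ⟨U, V, hz, e, ?_⟩
    rw [← h1] at h2
    exact h2

theorem flat_of_subsingleton {A B : Type u} [CommRing A] [CommRing B] (f : A →+* B) [Subsingleton B] : f.Flat := by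
  algebraize [f]
  change Module.Flat _ _
  infer_instance

theorem goodAt_of_fibAss (q : Z ⟶ T) [Flat q] [LocallyOfFinitePresentation q] {E : Eqs Z} (hE : IsSys E) (z : Z)
    (hz : ∃ V : Z.Opens, z ∈ V ∧ ∃ a : Γ(Z, V), E V a)
    (h : ∀ y ∈ AssPt.fibAss q (q z), ∀ (V : Z.Opens) (a : Γ(Z, V)), y ∈ V → E V a → y ∈ Z.basicOpen a) :
    GoodAt q E z := by
  obtain ⟨V₀, hz₀, a₀, ha₀⟩ := hz
  obtain ⟨U, V₁, hz₁, e₁, h₁⟩ := RelCartier.exists_affine_le q z V₀ hz₀
  have ha₁ := hE _ _ h₁ a₀ ha₀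
  set a₁ := ores h₁ a₀ with ha₁'
  by_cases hz : z ∈ Z.basicOpen a₁
  · have hu : IsUnit (ores (Z.basicOpen_le a₁) a₁) := RingedSpace.isUnit_res_basicOpen _ _
    refine ⟨U, ⟨Z.basicOpen a₁, V₁.2.basicOpen a₁⟩, hz, (Z.basicOpen_le a₁).trans e₁, ores (Z.basicOpen_le a₁) a₁,
      hE _ _ _ _ ha₁, hu.mem_nonZeroDivisors, ?_⟩
    have htop : Ideal.span {ores (Z.basicOpen_le a₁) a₁} = ⊤ := Ideal.span_singleton_eq_top.mpr hu
    have hsub : Subsingleton (Γ(Z, Z.basicOpen a₁) ⧸ Ideal.span {ores (Z.basicOpen_le a₁) a₁}) :=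
      Ideal.Quotient.subsingleton_iff.2 htop
    exact flat_of_subsingleton _
  · have hm : Z.presheaf.germ V₁.1 z hz₁ a₁ ∈ maximalIdeal (Z.presheaf.stalk z) := by
      rw [mem_maximalIdeal]
      exact fun hu => hz ((Z.mem_basicOpen a₁ z hz₁).mpr hu)
    have hreg := AssPt.mk_germ_mem_nonZeroDivisors q z hz₁ a₁ fun y hy hyz =>
      h y hy V₁.1 a₁ (hyz.mem_open V₁.1.2 hz₁) ha₁
    obtain ⟨g, hzg, hnzd, hfl⟩ := K470.RelCartFib.exists_nhd q U.2 V₁.2 e₁ z hz₁ (Flat.stalkMap q z) a₁ hm hreg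
    exact ⟨U, ⟨Z.basicOpen g, V₁.2.basicOpen g⟩, hzg, (Z.basicOpen_le g).trans e₁, _,
      hE _ _ (Z.basicOpen_le g) _ ha₁, hnzd, hfl⟩

theorem flat_quot {R A B : Type u} [CommRing R] [CommRing A] [CommRing B] (f : R →+* A) (g : A →+* B)
    (hg : g.Flat) (I : Ideal A) (h : ((Ideal.Quotient.mk I).comp f).Flat) :
    ((Ideal.Quotient.mk (I.map g)).comp (g.comp f)).Flat := by
  let : Algebra R A := f.toAlgebra
  let : Algebra A B := g.toAlgebra
  let : Algebra R B := (g.comp f).toAlgebra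
  have : IsScalarTower R A B := IsScalarTower.of_algebraMap_eq' rfl
  have : Module.Flat A B := hg
  have : Module.Flat R (A ⧸ I) := h
  exact Groth.Agent.Flat2D.SliceSeq.flat_quot_of_flat (R := R) I (I.map g) rfl

theorem flat_span {R A B : Type u} [CommRing R] [CommRing A] [CommRing B] (f : R →+* A) (g : A →+* B)
    (hg : g.Flat) (a : A) (h : ((Ideal.Quotient.mk (Ideal.span {a})).comp f).Flat) :
    ((Ideal.Quotient.mk (Ideal.span {g a})).comp (g.comp f)).Flat := by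
  have h1 := flat_quot f g hg _ h
  have h2 : (Ideal.span {a}).map g = Ideal.span {g a} := by rw [Ideal.map_span, Set.image_singleton]
  rwa [h2] at h1

/-- good points can be tested on arbitrarily small neighbourhoods -/
theorem GoodAt.exists_le {q : Z ⟶ T} {E : Eqs Z} (hE : IsSys E) {z : Z} (h : GoodAt q E z) (W : Z.Opens)
    (hW : z ∈ W) : ∃ (U : T.affineOpens) (V : Z.affineOpens) (_ : z ∈ V.1) (_ : V.1 ≤ W) (e : V.1 ≤ q ⁻¹ᵁ U.1)
      (a : Γ(Z, V.1)), E V.1 a ∧ a ∈ nonZeroDivisors Γ(Z, V.1) ∧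
      ((Ideal.Quotient.mk (Ideal.span {a})).comp (q.appLE U.1 V.1 e).hom).Flat := by
  obtain ⟨U, V, hz, e, a, ha, ha', hf⟩ := h
  obtain ⟨f, hf1, hf2⟩ := V.2.exists_basicOpen_le ⟨z, hW⟩ hz
  let V' : Z.affineOpens := ⟨Z.basicOpen f, V.2.basicOpen f⟩
  have hle : V'.1 ≤ V.1 := Z.basicOpen_le f
  refine ⟨U, V', hf2, hf1, hle.trans e, ores hle a, hE _ _ hle _ ha,
    RelCartier.restrict_mem_nonZeroDivisors hle ha', ?_⟩
  have h1 := flat_span (q.appLE U.1 V.1 e).hom (ores hle) (RelCartier.presheaf_map_flat hle) a hf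
  have h2 : (ores hle).comp (q.appLE U.1 V.1 e).hom = (q.appLE U.1 V'.1 (hle.trans e)).hom := by
    rw [← Scheme.Hom.appLE_map q e (homOfLE hle).op, CommRingCat.hom_comp]
    rfl
  rwa [h2] at h1

theorem GoodAt.of_isOpenImmersion {Z' : Scheme.{u}} (j : Z' ⟶ Z) [IsOpenImmersion j] {q : Z ⟶ T} {E : Eqs Z}
    (hE : IsSys E) {E' : Eqs Z'} (hEE' : ∀ (V : Z.Opens) (a : Γ(Z, V)), V ≤ j.opensRange → E V a →
      E' (j ⁻¹ᵁ V) (j.app V a)) (z : Z') (h : GoodAt q E (j z)) : GoodAt (j ≫ q) E' z := by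
  obtain ⟨U, V, hz, hle, e, a, ha, ha', hf⟩ := h.exists_le hE j.opensRange ⟨z, rfl⟩
  have hiso : IsIso (j.app V.1) := Scheme.Hom.isIso_app j V.1 hle
  have hbij : Function.Bijective (j.app V.1).hom := ConcreteCategory.bijective_of_isIso (j.app V.1)
  refine ⟨U, ⟨j ⁻¹ᵁ V.1, V.2.preimage_of_isOpenImmersion j hle⟩, hz, ?_, (j.app V.1).hom a,
    hEE' _ _ hle ha, ?_, ?_⟩
  · rw [Scheme.Hom.comp_preimage]
    exact Scheme.Hom.preimage_mono _ e
  · rw [mem_nonZeroDivisors_iff_right] at ha' ⊢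
    intro b hb
    obtain ⟨b, rfl⟩ := hbij.2 b
    rw [← map_mul, map_eq_zero_iff _ hbij.1] at hb
    rw [ha' _ hb, map_zero]
  · have h1 := flat_span (q.appLE U.1 V.1 e).hom (j.app V.1).hom (RingHom.Flat.of_bijective hbij) a hf
    have h2 : (j.app V.1).hom.comp (q.appLE U.1 V.1 e).hom = ((j ≫ q).appLE U.1 (j ⁻¹ᵁ V.1) (by
        rw [Scheme.Hom.comp_preimage]; exact Scheme.Hom.preimage_mono _ e)).hom := by
      rw [← CommRingCat.hom_comp, ← Scheme.Hom.appLE_eq_app, Scheme.Hom.appLE_comp_appLE]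
    rwa [h2] at h1

end K475.Sys
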